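import Groth.Prelude.Def_QuadGrp2
import Mathlib.AlgebraicGeometry.Morphisms.Smooth

/-!
# A scheme over an affine base represented by an algebra on affine points is that affine scheme
-/

set_option autoImplicit false

universe u

open CategoryTheory CategoryTheory.Limits AlgebraicGeometry QuadGrp

namespace Groth.Agent.OrthSmooth

variable {R : Type u} [CommRing R] {G : Over (Spec (CommRingCat.of R))} {A₀ : Type u} [CommRing A₀] [Algebra R A₀]

/-- Points of `G` are naturally the `R`-algebra maps out of `A₀`. -/
structure AffRep (G : Over (Spec (CommRingCat.of R))) (A₀ : Type u) [CommRing A₀] [Algebra R A₀] where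
  pts : ∀ (A : Type u) [CommRing A] [Algebra R A], (specOver R A ⟶ G) ≃ (A₀ →ₐ[R] A)
  natural : ∀ (A B : Type u) [CommRing A] [Algebra R A] [CommRing B] [Algebra R B] (φ : A →ₐ[R] B)
    (y : specOver R A ⟶ G), pts B (specOverMap R φ ≫ y) = φ.comp (pts A y)

/-- The algebra structure cut out by a point. -/
noncomputable abbrev algOf {C : CommRingCat.{u}} (p : Spec C ⟶ G.left) : Algebra R C :=
  (Spec.preimage (p ≫ G.hom)).hom.toAlgebra

theorem specMap_algOf {C : CommRingCat.{u}} (p : Spec C ⟶ G.left) :
    letI := algOf p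
    Spec.map (CommRingCat.ofHom (algebraMap R C)) = p ≫ G.hom :=
  (congrArg Spec.map (CommRingCat.hom_ext rfl)).trans (Spec.map_preimage _)

/-- The point of `Spec A₀` attached to a point of `G`. -/
noncomputable def theta (D : AffRep G A₀) {C : CommRingCat.{u}} (p : Spec C ⟶ G.left) :
    Spec C ⟶ Spec (CommRingCat.of A₀) :=
  letI := algOf p
  Spec.map (CommRingCat.ofHom (D.pts C (Over.homMk p (specMap_algOf p).symm)).toRingHom)

theorem theta_eq (D : AffRep G A₀) (A : Type u) [CommRing A] [hA : Algebra R A] (y : specOver R A ⟶ G) :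
    theta D (C := CommRingCat.of A) y.left = Spec.map (CommRingCat.ofHom (D.pts A y).toRingHom) := by
  have h : algOf (C := CommRingCat.of A) y.left = hA := by
    refine Algebra.algebra_ext _ _ fun r => ?_
    have : Spec.preimage (y.left ≫ G.hom) = CommRingCat.ofHom (algebraMap R A) :=
      Spec.map_injective ((Spec.map_preimage _).trans (Over.w y))
    exact congr($this r)
  have gen : ∀ (i : Algebra R A), algOf (C := CommRingCat.of A) y.left = i →
      ∀ (y' : @specOver R _ A _ i ⟶ G), y'.left = y.left →
        theta D (C := CommRingCat.of A) y.left = Spec.map (CommRingCat.ofHom (@AffRep.pts R _ G A₀ _ _ D A _ i y').toRingHom) := by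
    rintro i rfl y' hy
    have : y' = Over.homMk (U := @specOver R _ A _ (algOf (C := CommRingCat.of A) y.left)) y.left
        (specMap_algOf (C := CommRingCat.of A) y.left).symm := Over.OverMorphism.ext hy
    rw [this]
    rfl
  exact gen _ h y rfl

theorem theta_natural (D : AffRep G A₀) {C C' : CommRingCat.{u}} (f : C ⟶ C') (p : Spec C ⟶ G.left) :
    Spec.map f ≫ theta D p = theta D (Spec.map f ≫ p) := by
  letI := algOf p
  letI := algOf (Spec.map f ≫ p)
  let φ : C →ₐ[R] C' :=
    { f.hom with
      commutes' := fun r => by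
        have : Spec.preimage (p ≫ G.hom) ≫ f = Spec.preimage ((Spec.map f ≫ p) ≫ G.hom) :=
          Spec.map_injective (by rw [Spec.map_comp, Spec.map_preimage, Spec.map_preimage, Category.assoc])
        exact congr($this r) }
  have hy : (Over.homMk (Spec.map f ≫ p) (specMap_algOf (Spec.map f ≫ p)).symm : specOver R C' ⟶ G) =
      specOverMap R φ ≫ (Over.homMk p (specMap_algOf p).symm : specOver R C ⟶ G) := Over.OverMorphism.ext rfl
  change Spec.map f ≫ Spec.map _ = Spec.map (CommRingCat.ofHom (D.pts C' _).toRingHom)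
  refine Eq.trans ?_ (congrArg (fun y : specOver R C' ⟶ G => Spec.map (CommRingCat.ofHom (D.pts C' y).toRingHom)) hy).symm
  refine Eq.trans ?_ (congrArg (fun a : A₀ →ₐ[R] C' => Spec.map (CommRingCat.ofHom a.toRingHom)) (D.natural C C' φ _)).symm
  exact (Spec.map_comp _ _).symm

theorem pullback_compat (D : AffRep G A₀) {S T : CommRingCat.{u}} (p : Spec S ⟶ G.left) (q : Spec T ⟶ G.left) :
    pullback.fst p q ≫ theta D p = pullback.snd p q ≫ theta D q := by
  refine (pullback p q).affineCover.hom_ext _ _ fun x => ?_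
  obtain ⟨a, ha⟩ : ∃ a, Spec.map a = (pullback p q).affineCover.f x ≫ pullback.fst p q := ⟨_, Spec.map_preimage _⟩
  obtain ⟨b, hb⟩ : ∃ b, Spec.map b = (pullback p q).affineCover.f x ≫ pullback.snd p q := ⟨_, Spec.map_preimage _⟩
  have e1 := (Category.assoc ((pullback p q).affineCover.f x) (pullback.fst p q) (theta D p)).symm.trans
    ((congrArg (· ≫ theta D p) ha.symm).trans (theta_natural D a p))
  have e2 := (Category.assoc ((pullback p q).affineCover.f x) (pullback.snd p q) (theta D q)).symm.trans
    ((congrArg (· ≫ theta D q) hb.symm).trans (theta_natural D b q))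
  refine e1.trans (Eq.trans (congrArg (theta D) ?_) e2.symm)
  exact (congrArg (· ≫ p) ha).trans ((Category.assoc _ _ _).trans ((congrArg _ pullback.condition).trans
    ((Category.assoc _ _ _).symm.trans (congrArg (· ≫ q) hb.symm))))

/-- `G` is `Spec A₀`. -/
theorem exists_iso (D : AffRep G A₀) :
    ∃ e : G.left ≅ Spec (CommRingCat.of A₀), G.hom = e.hom ≫ Spec.map (CommRingCat.ofHom (algebraMap R A₀)) := by
  let ρ : specOver R A₀ ⟶ G := (D.pts A₀).symm (AlgHom.id R A₀)
  let ψ : G.left ⟶ Spec (CommRingCat.of A₀) :=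
    G.left.affineCover.glueMorphisms (fun x => theta D (G.left.affineCover.f x)) fun _ _ => pullback_compat D _ _
  have hψ : ∀ {C : CommRingCat.{u}} (p : Spec C ⟶ G.left), p ≫ ψ = theta D p := by
    intro C p
    refine Scheme.Cover.hom_ext (G.left.affineCover.pullback₁ p) _ _ fun x => ?_
    change pullback.fst p (G.left.affineCover.f x) ≫ p ≫ ψ = pullback.fst p (G.left.affineCover.f x) ≫ theta D p
    rw [pullback.condition_assoc]
    refine Eq.trans (congrArg (pullback.snd p (G.left.affineCover.f x) ≫ ·)
      (Scheme.Cover.ι_glueMorphisms G.left.affineCover (fun x => theta D (G.left.affineCover.f x))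
        (fun _ _ => pullback_compat D _ _) x)) ?_
    exact (pullback_compat D p (G.left.affineCover.f x)).symm
  have h1 : ρ.left ≫ ψ = 𝟙 _ := by
    refine (hψ _).trans ?_
    rw [theta_eq D A₀ ρ, Equiv.apply_symm_apply]
    exact Spec.map_id _
  have h2 : ψ ≫ ρ.left = 𝟙 _ := by
    refine G.left.affineCover.hom_ext _ _ fun x => ?_
    refine Eq.trans ?_ (Category.comp_id _).symm
    refine (Category.assoc _ _ _).symm.trans ((congrArg (· ≫ ρ.left) (hψ _)).trans ?_)
    set p := G.left.affineCover.f x
    letI := algOf p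
    have hρ : ∀ {C : CommRingCat.{u}} (p : Spec C ⟶ G.left), theta D p ≫ ρ.left = p := by
      intro C p
      letI := algOf p
      let y : specOver R C ⟶ G := Over.homMk p (specMap_algOf p).symm
      have : specOverMap R (D.pts C y) ≫ ρ = y := (D.pts C).injective (by
        rw [D.natural, Equiv.apply_symm_apply, AlgHom.comp_id])
      exact congrArg CommaMorphism.left this
    exact hρ _
  refine ⟨⟨ψ, ρ.left, h2, h1⟩, ?_⟩
  exact (Category.id_comp G.hom).symm.trans ((congrArg (· ≫ G.hom) h2.symm).trans
    ((Category.assoc _ _ _).trans (congrArg (ψ ≫ ·) (Over.w ρ))))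

theorem smooth_iff (D : AffRep G A₀) : AlgebraicGeometry.Smooth G.hom ↔ Algebra.Smooth R A₀ := by
  obtain ⟨e, he⟩ := exists_iso D
  rw [he, MorphismProperty.cancel_left_of_respectsIso (@AlgebraicGeometry.Smooth),
    HasRingHomProperty.Spec_iff (P := @AlgebraicGeometry.Smooth)]
  exact RingHom.smooth_algebraMap

end Groth.Agent.OrthSmooth
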