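import Mathlib.LinearAlgebra.QuadraticForm.Basic
import Mathlib.LinearAlgebra.Determinant
import Mathlib.FieldTheory.IsAlgClosed.Basic
import Mathlib.RingTheory.Polynomial.Nilpotent
import Mathlib.LinearAlgebra.Dimension.Constructions
import Mathlib.Tactic.Module

/-!
# Eichler transformations generate the special orthogonal group in odd dimension
-/

set_option autoImplicit false

universe u v

namespace Groth.Agent.OrthSmooth

variable {K : Type u} [Field K] {V : Type v} [AddCommGroup V] [Module K V]

/-- Determinant of a unipotent endomorphism. -/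
theorem det_one_add_of_nilpotent [FiniteDimensional K V] {N : V →ₗ[K] V} (hN : N * N * N = 0) :
    LinearMap.det (1 + N) = 1 := by
  classical
  let b := Module.finBasis K V
  rw [← LinearMap.det_toMatrix b, map_add, show LinearMap.toMatrix b b (1 : V →ₗ[K] V) = 1 from LinearMap.toMatrix_one b]
  set M := LinearMap.toMatrix b b N
  have hM : M * M * M = 0 := by
    simp only [M, ← LinearMap.toMatrix_mul, hN, map_zero]
  let T : Matrix _ _ (Polynomial K) := (Polynomial.X : Polynomial K) • M.map Polynomial.C
  have hT : IsNilpotent T := ⟨3, by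
    rw [pow_succ, pow_succ, pow_one]
    simp only [T, Matrix.smul_mul, Matrix.mul_smul, ← Matrix.map_mul, hM, Matrix.map_zero _ (map_zero Polynomial.C), smul_zero]⟩
  have hu := (Matrix.isUnit_iff_isUnit_det _).1 hT.isUnit_one_add
  obtain ⟨c, -, hc⟩ := Polynomial.isUnit_iff.1 hu
  have hev : ∀ t : K, (1 + t • M).det = c := fun t => by
    have := congrArg (Polynomial.evalRingHom t) hc
    rw [RingHom.map_det, Polynomial.coe_evalRingHom, Polynomial.eval_C] at this
    rw [this]
    congr 1
    ext i j
    by_cases h : i = j <;> simp [T, h] <;> ring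
  have h1 := hev 1
  have h0 := hev 0
  rw [one_smul] at h1
  rw [zero_smul, add_zero, Matrix.det_one] at h0
  rw [h1, ← h0]

variable (Q : QuadraticForm K V)

local notation "B" => QuadraticMap.polarBilin Q

/-- Eichler transformation. -/
def eich (a x : V) : V →ₗ[K] V :=
  LinearMap.id + ((QuadraticMap.polarBilin Q).flip a).smulRight x -
    ((QuadraticMap.polarBilin Q).flip x + Q x • (QuadraticMap.polarBilin Q).flip a).smulRight a

theorem eich_apply (a x v : V) : eich Q a x v = v + B v a • x - (B v x + Q x * B v a) • a := by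
  simp [eich, add_smul]

theorem bil_comm (v w : V) : B v w = B w v := QuadraticMap.polar_comm _ _ _

theorem bil_self (v : V) : B v v = 2 * Q v := by
  rw [QuadraticMap.polarBilin_apply_apply, QuadraticMap.polar_self, two_nsmul, two_mul]

theorem q_add (v w : V) : Q (v + w) = Q v + Q w + B v w := by
  rw [QuadraticMap.map_add (⇑Q) v w, QuadraticMap.polarBilin_apply_apply]

theorem q_smul (c : K) (v : V) : Q (c • v) = c * c * Q v := QuadraticMap.map_smul Q c v

theorem eich_isometry {a x : V} (ha : Q a = 0) (hax : B a x = 0) (v : V) : Q (eich Q a x v) = Q v := by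
  rw [eich_apply, sub_eq_add_neg, ← neg_smul, q_add, q_add, q_smul, q_smul, ha]
  simp only [map_add, map_smul, LinearMap.add_apply, LinearMap.smul_apply, smul_eq_mul, bil_comm Q x a, hax]
  ring

theorem eich_comp_neg {a x : V} (ha : Q a = 0) (hax : B a x = 0) :
    eich Q a (-x) ∘ₗ eich Q a x = LinearMap.id := by
  refine LinearMap.ext fun v => ?_
  rw [LinearMap.comp_apply, LinearMap.id_apply, eich_apply Q a (-x), QuadraticMap.map_neg]
  simp only [eich_apply, map_add, map_sub, map_smul, map_neg, LinearMap.add_apply, LinearMap.sub_apply,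
    LinearMap.smul_apply, smul_eq_mul, bil_comm Q x a, hax, bil_self, ha]
  module

theorem eich_det [FiniteDimensional K V] {a x : V} (ha : Q a = 0) (hax : B a x = 0) :
    LinearMap.det (eich Q a x) = 1 := by
  have hN : ∀ v, (eich Q a x - 1) v = B v a • x - (B v x + Q x * B v a) • a := fun v => by
    rw [LinearMap.sub_apply, Module.End.one_apply, eich_apply]
    abel
  have h := det_one_add_of_nilpotent (N := eich Q a x - 1) (LinearMap.ext fun v => by
    simp only [Module.End.mul_apply, hN, map_add, map_sub, map_smul, LinearMap.add_apply, LinearMap.sub_apply,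
      LinearMap.smul_apply, smul_eq_mul, bil_comm Q x a, hax, bil_self, ha, LinearMap.zero_apply]
    module)
  rwa [add_sub_cancel] at h

/-- Products of Eichler transformations. -/
inductive El : (V →ₗ[K] V) → Prop
  | one : El LinearMap.id
  | step {a x : V} (ha : Q a = 0) (hax : B a x = 0) {t : V →ₗ[K] V} : El t → El (eich Q a x ∘ₗ t)

theorem El.comp {s t : V →ₗ[K] V} (hs : El Q s) (ht : El Q t) : El Q (s ∘ₗ t) := by
  induction hs with
  | one => simpa using ht
  | step ha hax _ ih => exact El.step ha hax ih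

theorem El.eich_mem {a x : V} (ha : Q a = 0) (hax : B a x = 0) : El Q (eich Q a x) := by
  simpa using El.step ha hax (El.one (Q := Q))

theorem El.isometry {t : V →ₗ[K] V} (ht : El Q t) (v : V) : Q (t v) = Q v := by
  induction ht with
  | one => rfl
  | step ha hax _ ih => rw [LinearMap.comp_apply, eich_isometry Q ha hax, ih]

theorem El.det_eq_one [FiniteDimensional K V] {t : V →ₗ[K] V} (ht : El Q t) : LinearMap.det t = 1 := by
  induction ht with
  | one => exact LinearMap.det_id
  | step ha hax _ ih => rw [LinearMap.det_comp, eich_det Q ha hax, ih, one_mul]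

theorem El.exists_inv {t : V →ₗ[K] V} (ht : El Q t) : ∃ s, El Q s ∧ s ∘ₗ t = LinearMap.id := by
  induction ht with
  | one => exact ⟨_, El.one, by simp⟩
  | @step a x ha hax t _ ih =>
    obtain ⟨s, hs, hst⟩ := ih
    refine ⟨s ∘ₗ eich Q a (-x), hs.comp Q (El.eich_mem Q ha (by rw [map_neg, hax, neg_zero])), ?_⟩
    rw [LinearMap.comp_assoc, ← LinearMap.comp_assoc t, eich_comp_neg Q ha hax, LinearMap.id_comp, hst]

/-- Anisotropic radical. -/
def RadAniso : Prop := ∀ v, (∀ w, B v w = 0) → Q v = 0 → v = 0

/-- A hyperbolic pair. -/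
structure IsPair (e f : V) : Prop where
  qe : Q e = 0
  qf : Q f = 0
  bef : B e f = 1

theorem exists_root_quadratic [IsAlgClosed K] (a b c : K) (h : a ≠ 0 ∨ b ≠ 0) :
    ∃ s, a * s ^ 2 + b * s + c = 0 := by
  by_cases ha : a = 0
  · have hb : b ≠ 0 := h.resolve_left fun h' => h' ha
    exact ⟨-c / b, by rw [ha]; field_simp; ring⟩
  · obtain ⟨s, hs⟩ := IsAlgClosed.exists_root
      (Polynomial.C a * Polynomial.X ^ 2 + Polynomial.C b * Polynomial.X + Polynomial.C c) (by
        rw [Polynomial.degree_quadratic ha]; norm_num)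
    exact ⟨s, by simpa using hs⟩

/-- Project away from a hyperbolic pair. -/
theorem proj_perp {e f : V} (h : IsPair Q e f) (v : V) :
    B (v - B v f • e - B v e • f) e = 0 ∧ B (v - B v f • e - B v e • f) f = 0 := by
  constructor
  · simp only [map_sub, map_smul, LinearMap.sub_apply, LinearMap.smul_apply, smul_eq_mul, bil_self, h.qe,
      bil_comm Q f e, h.bef]
    ring
  · simp only [map_sub, map_smul, LinearMap.sub_apply, LinearMap.smul_apply, smul_eq_mul, bil_self, h.qf, h.bef]
    ring

variable [IsAlgClosed K]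

/-- Move the first vector of a hyperbolic pair. -/
theorem exists_move_generic (hQ : RadAniso Q) {e f e' : V} (h : IsPair Q e f)
    (hbig : ∃ x, B x e = 0 ∧ B x f = 0 ∧ Q x ≠ 0) (he' : Q e' = 0)
    (hne : ∀ c : K, e' ≠ c • e) : ∃ t, El Q t ∧ t e = e' := by
  -- a vector `x` orthogonal to the pair with a nonconstant pairing
  set u := e' - B e' f • e - B e' e • f with hu
  obtain ⟨hue, huf⟩ := proj_perp Q h e'
  rw [← hu] at hue huf
  obtain ⟨x₀, hx0e, hx0f, hx0⟩ : ∃ x, B x e = 0 ∧ B x f = 0 ∧ (B e' e * Q x ≠ 0 ∨ B u x ≠ 0) := by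
    by_contra hcon
    push Not at hcon
    have hBu : ∀ w, B u w = 0 := fun w => by
      obtain ⟨h1, h2⟩ := proj_perp Q h w
      have := (hcon _ h1 h2).2
      simpa [map_sub, map_smul, hue, huf] using this
    by_cases hb : B e' e = 0
    · have hu0 : u = 0 := hQ u hBu (by
        rw [hu, hb, zero_smul, sub_zero, sub_eq_add_neg, ← neg_smul, q_add, q_smul, he', h.qe, map_smul,
          smul_eq_mul, hb]
        ring)
      refine hne (B e' f) ?_
      rw [hu, hb, zero_smul, sub_zero, sub_eq_zero] at hu0
      exact hu0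
    · obtain ⟨x, h1, h2, h3⟩ := hbig
      exact h3 ((mul_eq_zero.1 (hcon x h1 h2).1).resolve_left hb)
  obtain ⟨s, hs⟩ := exists_root_quadratic (-(B e' e * Q x₀)) (B u x₀) (B e' f - 1)
    (hx0.imp neg_ne_zero.2 id)
  set x := s • x₀
  have hxe : B x e = 0 := by simp [x, hx0e]
  have hxf : B x f = 0 := by simp [x, hx0f]
  set a := f + x - Q x • e with hadef
  have hqa : Q a = 0 := by
    rw [hadef, sub_eq_add_neg, ← neg_smul, q_add, q_add, q_smul Q (-Q x) e, h.qe, h.qf]
    simp only [map_add, map_smul, LinearMap.add_apply, smul_eq_mul, bil_comm Q f x, hxf, hxe, bil_comm Q f e, h.bef]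
    ring
  have hea : B e a = 1 := by
    simp only [hadef, map_sub, map_add, map_smul, smul_eq_mul, h.bef, bil_comm Q e x, hxe, bil_self, h.qe]
    ring
  have he'a : B e' a = 1 := by
    have : B e' x = B u x := by
      simp [hu, map_sub, map_smul, bil_comm Q e x, hxe, bil_comm Q f x, hxf]
    simp only [hadef, map_sub, map_add, map_smul, smul_eq_mul, this]
    simp only [x, map_smul, smul_eq_mul, q_smul]
    linear_combination hs
  have hax : B a (e' - e) = 0 := by
    rw [map_sub, bil_comm Q a e', he'a, bil_comm Q a e, hea, sub_self]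
  refine ⟨eich Q a (e' - e), El.eich_mem Q hqa hax, ?_⟩
  have hq := eich_isometry Q hqa hax e
  rw [eich_apply, hea, one_smul, add_sub_cancel, mul_one, h.qe] at hq
  set k := B e (e' - e) + Q (e' - e)
  have hk : k = 0 := by
    rw [sub_eq_add_neg, ← neg_smul, q_add, q_smul, he', hqa, map_smul, smul_eq_mul, he'a] at hq
    linear_combination -hq
  rw [eich_apply, hea, one_smul, add_sub_cancel, mul_one, show B e (e' - e) + Q (e' - e) = k from rfl, hk, zero_smul,
    sub_zero]

/-- Move a hyperbolic pair. -/
theorem exists_move (hQ : RadAniso Q) (hbig : ∀ {e f : V}, IsPair Q e f → ∃ x, B x e = 0 ∧ B x f = 0 ∧ Q x ≠ 0)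
    {e f e' f' : V} (h : IsPair Q e f) (h' : IsPair Q e' f') : ∃ t, El Q t ∧ t e = e' ∧ t f = f' := by
  obtain ⟨t, ht, hte⟩ : ∃ t, El Q t ∧ t e = e' := by
    by_cases hne : ∀ c : K, e' ≠ c • e
    · exact exists_move_generic Q hQ h (hbig h) h'.qe hne
    · push Not at hne
      obtain ⟨c, hc⟩ := hne
      obtain ⟨x, hxe, hxf, hqx⟩ := hbig h
      have hfx : B f x = 0 := by rw [bil_comm, hxf]
      set t₀ := eich Q f x
      have ht₀ : El Q t₀ := El.eich_mem Q h.qf hfx
      have he₀ : t₀ e = e + x - Q x • f := by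
        rw [eich_apply, h.bef, bil_comm Q e x, hxe, zero_add, mul_one, one_smul]
      have hpair : IsPair Q (t₀ e) f := by
        refine ⟨by rw [ht₀.isometry, h.qe], h.qf, ?_⟩
        rw [he₀]
        simp [h.bef, hxf, bil_self, h.qf]
      obtain ⟨t, ht, hte⟩ := exists_move_generic Q hQ hpair (hbig hpair) h'.qe (fun d hd => by
        have h1 := congrArg (fun w => B w e) hd
        have h2 := congrArg (fun w => B w f) hd
        rw [hc, he₀] at h1 h2
        simp [bil_self, h.qe, h.qf, h.bef, hxe, hxf, bil_comm Q f e] at h1 h2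
        rcases h1 with h1 | h1
        · have := h'.bef
          rw [hc, h2, h1] at this
          simp at this
        · exact hqx h1)
      exact ⟨t ∘ₗ t₀, ht.comp Q ht₀, hte⟩
  set f₁ := t f
  have hq1 : Q f₁ = 0 := by rw [ht.isometry, h.qf]
  have hb1 : B e' f₁ = 1 := by
    have h3 := ht.isometry Q (e + f)
    rw [map_add, q_add, q_add, hte, h.qe, h.qf, h'.qe, hq1, h.bef] at h3
    simpa using h3
  have hx : B e' (f' - f₁) = 0 := by rw [map_sub, h'.bef, hb1, sub_self]
  refine ⟨eich Q e' (f' - f₁) ∘ₗ t, El.step h'.qe hx ht, ?_, ?_⟩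
  · rw [LinearMap.comp_apply, hte, eich_apply, bil_self, h'.qe, hx]
    simp
  · rw [LinearMap.comp_apply, show t f = f₁ from rfl]
    have hq := eich_isometry Q h'.qe hx f₁
    have hfe : B f₁ e' = 1 := by rw [bil_comm, hb1]
    rw [eich_apply, hfe, one_smul, add_sub_cancel, mul_one] at hq ⊢
    set k := B f₁ (f' - f₁) + Q (f' - f₁)
    rw [sub_eq_add_neg, ← neg_smul, q_add, q_smul, h'.qf, h'.qe, map_smul, smul_eq_mul, bil_comm Q f' e', h'.bef,
      hq1] at hq
    rw [show k = 0 by linear_combination -hq, zero_smul, sub_zero]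

section Split

omit [IsAlgClosed K]

/-- The orthogonal complement of a pair. -/
def compl (e f : V) : Submodule K V := LinearMap.ker (B e) ⊓ LinearMap.ker (B f)

variable {e f : V} (h : IsPair Q e f)

/-- `V` is the sum of the plane and its orthogonal complement. -/
def splitEquiv : ((K × K) × compl Q e f) ≃ₗ[K] V where
  toFun p := p.1.1 • e + p.1.2 • f + p.2.1
  map_add' p q := by simp only [Prod.fst_add, Prod.snd_add, Submodule.coe_add]; module
  map_smul' c p := by simp only [Prod.smul_fst, Prod.smul_snd, Submodule.coe_smul, RingHom.id_apply, smul_eq_mul]; module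
  invFun v := ((B v f, B v e), ⟨v - B v f • e - B v e • f, by
    obtain ⟨h1, h2⟩ := proj_perp Q h v
    exact ⟨by rw [SetLike.mem_coe, LinearMap.mem_ker, bil_comm, h1], by rw [SetLike.mem_coe, LinearMap.mem_ker, bil_comm, h2]⟩⟩)
  left_inv := by
    rintro ⟨⟨a, b⟩, ⟨u, hu⟩⟩
    have h1 : B u e = 0 := by rw [bil_comm]; exact LinearMap.mem_ker.1 hu.1
    have h2 : B u f = 0 := by rw [bil_comm]; exact LinearMap.mem_ker.1 hu.2
    have e1 : B (a • e + b • f + u) f = a := by
      simp [bil_self, h.qf, h.bef, h2]
    have e2 : B (a • e + b • f + u) e = b := by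
      simp [bil_self, h.qe, bil_comm Q f e, h.bef, h1]
    refine Prod.ext (Prod.ext e1 e2) (Subtype.ext ?_)
    simp only [e1, e2]
    module
  right_inv v := by simp only; module

theorem splitEquiv_apply (a b : K) (u : compl Q e f) : splitEquiv Q h ((a, b), u) = a • e + b • f + u.1 := rfl

theorem mem_compl {u : V} : u ∈ compl Q e f ↔ B e u = 0 ∧ B f u = 0 := Iff.rfl

/-- The induced form on the complement. -/
def qU (e f : V) : QuadraticForm K (compl Q e f) := Q.comp (compl Q e f).subtype

theorem bil_qU (u w : compl Q e f) : QuadraticMap.polarBilin (qU Q e f) u w = B u.1 w.1 := by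
  simp [qU, QuadraticMap.polar]

/-- Extension by the identity. -/
def extU (g : compl Q e f →ₗ[K] compl Q e f) : V →ₗ[K] V :=
  (splitEquiv Q h).toLinearMap ∘ₗ LinearMap.prodMap LinearMap.id g ∘ₗ (splitEquiv Q h).symm.toLinearMap

theorem extU_apply (g : compl Q e f →ₗ[K] compl Q e f) (a b : K) (u : compl Q e f) :
    extU Q h g (a • e + b • f + u.1) = a • e + b • f + (g u).1 := by
  rw [show a • e + b • f + u.1 = splitEquiv Q h ((a, b), u) from rfl]
  simp only [extU, LinearMap.comp_apply, LinearEquiv.coe_coe, LinearEquiv.symm_apply_apply, LinearMap.prodMap_apply,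
    LinearMap.id_apply]
  rfl

theorem El.ext_mem {g : compl Q e f →ₗ[K] compl Q e f} (hg : El (qU Q e f) g) : El Q (extU Q h g) := by
  induction hg with
  | one =>
    convert El.one (Q := Q)
    refine LinearMap.ext fun v => ?_
    obtain ⟨⟨⟨a, b⟩, u⟩, rfl⟩ := (splitEquiv Q h).surjective v
    rw [splitEquiv_apply, extU_apply]
    rfl
  | @step a x ha hax t _ ih =>
    have hc : extU Q h (eich (qU Q e f) a x ∘ₗ t) = eich Q a.1 x.1 ∘ₗ extU Q h t := by
      refine LinearMap.ext fun v => ?_
      obtain ⟨⟨⟨α, β⟩, u⟩, rfl⟩ := (splitEquiv Q h).surjective v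
      rw [LinearMap.comp_apply, splitEquiv_apply, extU_apply, extU_apply, LinearMap.comp_apply, eich_apply, eich_apply]
      have a1 : B e a.1 = 0 := ((mem_compl Q).1 a.2).1
      have a2 : B f a.1 = 0 := ((mem_compl Q).1 a.2).2
      have x1 : B e x.1 = 0 := ((mem_compl Q).1 x.2).1
      have x2 : B f x.1 = 0 := ((mem_compl Q).1 x.2).2
      simp only [Submodule.coe_add, Submodule.coe_sub, Submodule.coe_smul, bil_qU, map_add, map_smul,
        LinearMap.add_apply, LinearMap.smul_apply, smul_eq_mul, a1, a2, x1, x2]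
      simp only [qU, QuadraticMap.comp_apply, Submodule.subtype_apply]
      module
    rw [hc]
    refine El.step (Q := Q) (show Q a.1 = 0 from ha) ?_ ih
    rwa [bil_qU] at hax

end Split

/-- Every isometry of determinant one is a product of Eichler transformations. -/
theorem mem_el : ∀ (n : ℕ) (W : Type v) [AddCommGroup W] [Module K W] [FiniteDimensional K W] (q : QuadraticForm K W),
    Module.finrank K W = n → Odd n → RadAniso q → ∀ g : W →ₗ[K] W, (∀ v, q (g v) = q v) → LinearMap.det g = 1 →
      El q g := by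
  intro n
  induction n using Nat.strong_induction_on with
  | _ n ih =>
    intro W _ _ _ q hn hodd hq g hg hdet
    by_cases h1 : n = 1
    · subst h1
      let b := Module.finBasisOfFinrankEq K W hn
      have hd := hdet
      rw [← LinearMap.det_toMatrix b, Matrix.det_fin_one] at hd
      have : g = LinearMap.id := (LinearMap.toMatrix b b).injective (Matrix.ext fun i j => by
        rw [Subsingleton.elim i 0, Subsingleton.elim j 0, hd, LinearMap.toMatrix_id, Matrix.one_apply_eq])
      rw [this]
      exact El.one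
    have hn3 : 3 ≤ n := by obtain ⟨k, rfl⟩ := hodd; omega
    -- complements of pairs are smaller and odd
    have hU : ∀ {e f : W}, IsPair q e f → Module.finrank K (compl q e f) = n - 2 ∧ RadAniso (qU q e f) := by
      intro e f h
      refine ⟨?_, fun v hv hv0 => ?_⟩
      · have := (splitEquiv q h).finrank_eq
        rw [Module.finrank_prod, Module.finrank_prod, Module.finrank_self, hn] at this
        omega
      · refine Subtype.ext (hq v.1 (fun w => ?_) hv0)
        obtain ⟨h1, h2⟩ := (mem_compl q).1 v.2
        obtain ⟨⟨⟨a, b⟩, u⟩, rfl⟩ := (splitEquiv q h).surjective w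
        have := hv u
        rw [bil_qU] at this
        simp [splitEquiv_apply, bil_comm q v.1 e, h1, bil_comm q v.1 f, h2, this, -QuadraticMap.polarBilin_apply_apply]
    have hbig : ∀ {e f : W}, IsPair q e f → ∃ x, QuadraticMap.polarBilin q x e = 0 ∧
        QuadraticMap.polarBilin q x f = 0 ∧ q x ≠ 0 := by
      intro e f h
      obtain ⟨hd, hr⟩ := hU h
      by_contra hcon
      push Not at hcon
      have hall : ∀ u : compl q e f, qU q e f u = 0 := fun u => by
        obtain ⟨h1, h2⟩ := (mem_compl q).1 u.2
        exact hcon u.1 (by rw [bil_comm, h1]) (by rw [bil_comm, h2])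
      have : Subsingleton (compl q e f) := ⟨fun u w => by
        have hz : ∀ u : compl q e f, u = 0 := fun u => hr u (fun w => by
          rw [QuadraticMap.polarBilin_apply_apply, QuadraticMap.polar, hall, hall, hall, sub_zero, sub_zero]) (hall u)
        rw [hz u, hz w]⟩
      rw [Module.finrank_zero_of_subsingleton] at hd
      omega
    -- a hyperbolic pair
    obtain ⟨e, he0, he⟩ : ∃ e : W, e ≠ 0 ∧ q e = 0 := by
      let b := Module.finBasisOfFinrankEq K W hn
      set v := b ⟨0, by omega⟩
      set w := b ⟨1, by omega⟩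
      by_cases hw : q w = 0
      · exact ⟨w, b.ne_zero _, hw⟩
      obtain ⟨s, hs⟩ := exists_root_quadratic (q w) (QuadraticMap.polarBilin q v w) (q v) (Or.inl hw)
      refine ⟨v + s • w, fun h0 => ?_, ?_⟩
      · have := congrArg (fun z => b.repr z ⟨0, by omega⟩) h0
        simp [v, w, Finsupp.single_apply, Fin.ext_iff] at this
      · rw [q_add, q_smul, map_smul, smul_eq_mul]
        linear_combination hs
    obtain ⟨w, hw⟩ : ∃ w, QuadraticMap.polarBilin q e w ≠ 0 := by
      by_contra hcon
      push Not at hcon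
      exact he0 (hq e hcon he)
    set f₀ := (QuadraticMap.polarBilin q e w)⁻¹ • w
    have hef₀ : QuadraticMap.polarBilin q e f₀ = 1 := by simp [f₀, hw, -QuadraticMap.polarBilin_apply_apply]
    set f := f₀ - q f₀ • e
    have h : IsPair q e f := by
      refine ⟨he, ?_, by simp [f, hef₀, bil_self, he, -QuadraticMap.polarBilin_apply_apply]⟩
      simp only [f, sub_eq_add_neg, ← neg_smul, q_add, q_smul, he, map_smul, smul_eq_mul, bil_comm q f₀ e, hef₀]
      ring
    have hbg : QuadraticMap.polarBilin q (g e) (g f) = 1 := by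
      rw [QuadraticMap.polarBilin_apply_apply, QuadraticMap.polar, ← map_add, hg, hg, hg]
      exact h.bef
    have h' : IsPair q (g e) (g f) := ⟨(hg e).trans h.qe, (hg f).trans h.qf, hbg⟩
    obtain ⟨t, ht, hte, htf⟩ := exists_move q hq hbig h' h
    set g' := t ∘ₗ g
    have hg' : ∀ v, q (g' v) = q v := fun v => (ht.isometry q _).trans (hg v)
    have hdet' : LinearMap.det g' = 1 := by rw [LinearMap.det_comp, ht.det_eq_one, hdet, one_mul]
    have hbil : ∀ v w, QuadraticMap.polarBilin q (g' v) (g' w) = QuadraticMap.polarBilin q v w := fun v w => by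
      rw [QuadraticMap.polarBilin_apply_apply, QuadraticMap.polarBilin_apply_apply, QuadraticMap.polar,
        QuadraticMap.polar, ← map_add, hg', hg', hg']
    have hge : g' e = e := hte
    have hgf : g' f = f := htf
    have hmem : ∀ u ∈ compl q e f, g' u ∈ compl q e f := fun u hu => by
      rw [mem_compl] at hu ⊢
      constructor
      · rw [← hge, hbil]; exact hu.1
      · rw [← hgf, hbil]; exact hu.2
    set gU := g'.restrict hmem
    have hext : g' = extU q h gU := LinearMap.ext fun v => by
      obtain ⟨⟨⟨a, b⟩, u⟩, rfl⟩ := (splitEquiv q h).surjective v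
      rw [splitEquiv_apply, extU_apply, map_add, map_add, map_smul, map_smul, hge, hgf]
      rfl
    have hdetU : LinearMap.det gU = 1 := by
      rw [hext, extU, LinearMap.det_conj, LinearMap.det_prodMap, LinearMap.det_id, one_mul] at hdet'
      exact hdet'
    obtain ⟨hd, hr⟩ := hU h
    have hgU : El (qU q e f) gU := ih (n - 2) (by omega) _ (qU q e f) hd (by
      obtain ⟨k, rfl⟩ := hodd
      exact ⟨k - 1, by omega⟩) hr gU (fun u => hg' u.1) hdetU
    obtain ⟨s, hs, hst⟩ := ht.exists_inv q
    have : g = s ∘ₗ extU q h gU := by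
      rw [← hext, ← LinearMap.comp_assoc, hst, LinearMap.id_comp]
    rw [this]
    exact hs.comp q (El.ext_mem q h hgU)

end Groth.Agent.OrthSmooth
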