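import Groth.Agent.OrthSmooth.Main
import Groth.Agent.OrthSmooth.Eichler
import Mathlib.RingTheory.Jacobson.Ring
import Mathlib.RingTheory.LocalRing.ResidueField.Ideal
import Mathlib.RingTheory.Spectrum.Prime.Topology
import Mathlib.FieldTheory.IsAlgClosed.AlgebraicClosure

/-!
# Connectedness of the fibres of the special orthogonal group in odd rank
-/

set_option autoImplicit false

universe u

namespace Groth.Agent.OrthSmooth

open QuadGrp Matrix Groth.Agent.QuadHalfDisc MvPolynomial TensorProduct

variable {R : Type u} [CommRing R] {n : ℕ} {Q : QuadraticForm R (Fin n → R)}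
  {K : Type u} [Field K] [Algebra R K]

/-- The form over the field. -/
noncomputable def formK (Q : QuadraticForm R (Fin n → R)) (K : Type u) [Field K] [Algebra R K] :
    QuadraticForm K (Fin n → K) :=
  LinearMap.BilinMap.toQuadraticMap (Matrix.toLinearMap₂' K ((wMat Q).map (algebraMap R K)))

theorem coeffs_formK :
    coeffs (Pi.basisFun K (Fin n)) (LinearEquiv.refl K K) (formK Q K) = co ((wMat Q).map (algebraMap R K)) := by
  rw [formK, coeffs_toQuadraticMap]
  congr 1
  ext i j
  rw [LinearMap.toMatrix₂_apply, Pi.basisFun_apply, Pi.basisFun_apply, Matrix.toLinearMap₂'_apply']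
  simp

theorem coeffs_formK_comp (g : Matrix (Fin n) (Fin n) K) :
    coeffs (Pi.basisFun K (Fin n)) (LinearEquiv.refl K K) ((formK Q K).comp (Matrix.toLin' g)) =
      co (gᵀ * (wMat Q).map (algebraMap R K) * g) := by
  set b := Pi.basisFun K (Fin n)
  set B : LinearMap.BilinMap K (Fin n → K) K := Matrix.toLinearMap₂' K ((wMat Q).map (algebraMap R K))
  have : (formK Q K).comp (Matrix.toLin' g) =
      LinearMap.BilinMap.toQuadraticMap (B.compl₁₂ (Matrix.toLin' g) (Matrix.toLin' g)) := by
    ext x
    rfl
  rw [this, coeffs_toQuadraticMap, LinearMap.toMatrix₂_compl₁₂ b b b b, LinearMap.toMatrix_eq_toMatrix',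
    LinearMap.toMatrix'_toLin']
  congr 3
  ext i j
  rw [LinearMap.toMatrix₂_apply]
  simp only [b, B, Pi.basisFun_apply, Matrix.toLinearMap₂'_apply']
  simp

theorem isSol_iff_isometry (g : Matrix (Fin n) (Fin n) K) :
    IsSol Q (detEq n) g ↔ (∀ v, formK Q K (Matrix.toLin' g v) = formK Q K v) ∧ g.det = 1 := by
  rw [isSol_detEq_iff, ← coeffs_formK_comp, ← coeffs_formK]
  refine and_congr_left' ⟨fun h v => ?_, fun h => ?_⟩
  · exact DFunLike.congr_fun (eq_of_coeffs_eq (Pi.basisFun K (Fin n)) h) v
  · exact congrArg _ (QuadraticMap.ext h)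

theorem radAniso_formK (hn : Odd n) (hQ : IsUnit (hd (co (wMat Q)))) : RadAniso (formK Q K) := by
  classical
  intro v hv hv0
  set W := (wMat Q).map (algebraMap R K)
  by_contra hne
  obtain ⟨i, hi⟩ := Function.ne_iff.1 hne
  have hi' : v i ≠ 0 := hi
  set e := (v i)⁻¹ • v
  have hei : e i = 1 := by simp [e, hi']
  have hB : ∀ a b, QuadraticMap.polarBilin (formK Q K) a b = dotProduct a ((W + Wᵀ).mulVec b) := fun a b => by
    rw [QuadraticMap.polarBilin_apply_apply, formK, LinearMap.BilinMap.polar_toQuadraticMap,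
      Matrix.toLinearMap₂'_apply', Matrix.toLinearMap₂'_apply', Matrix.add_mulVec, dotProduct_add,
      Matrix.dotProduct_mulVec a Wᵀ, Matrix.vecMul_transpose, dotProduct_comm (W.mulVec a)]
  have hPe : (W + Wᵀ).mulVec e = 0 := by
    funext l
    have h1 := hv (Pi.single l 1)
    rw [bil_comm, hB, single_dotProduct, one_mul] at h1
    simp [e, Matrix.mulVec_smul, h1]
  have hqe : dotProduct e (W.mulVec e) = 0 := by
    have : formK Q K e = 0 := by rw [QuadraticMap.map_smul, hv0, smul_zero]
    rwa [formK, LinearMap.BilinMap.toQuadraticMap_apply, Matrix.toLinearMap₂'_apply'] at this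
  set T := replMat i e
  have hcol : ∀ M : Matrix (Fin n) (Fin n) K, (Tᵀ * M * T) i i = dotProduct e (M.mulVec e) := fun M => by
    rw [Matrix.mul_assoc, Matrix.mul_apply]
    simp only [Matrix.transpose_apply, Matrix.mul_apply, T, replMat_col, Matrix.mulVec, dotProduct]
  obtain ⟨-, -, V', hco, hr, hc, hv', -⟩ := hd_split hn W i e (fun l _ => by rw [hPe]; rfl)
    (by rw [hPe, Pi.zero_apply, mul_zero]; exact ((hcol _).trans (by rw [hPe, dotProduct_zero])).symm)
  refine (isUnit_hd_map hQ K).ne_zero ?_
  have h := hd_congr hn W T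
  rw [show T.det = 1 from (det_replMat i e).trans hei, one_pow, one_mul, ← hco, hd_block hn i V' hr hc, hv', hcol, hqe,
    zero_mul] at h
  exact h.symm

variable [IsAlgClosed K]

/-- An idempotent taking the same value at all points is trivial. -/
theorem eq_zero_or_one_of_points {C : Type u} [CommRing C] [Algebra K C] [Algebra.FiniteType K C] (ε : C)
    (hε : IsIdempotentElem ε) {c : K} (hχ : ∀ χ : C →ₐ[K] K, χ ε = c) (hpt : ∃ χ : C →ₐ[K] K, χ ε = c) :
    ε = 0 ∨ ε = 1 := by
  have key : ∀ f : C, IsIdempotentElem f → (∀ χ : C →ₐ[K] K, χ f = 0) → f = 0 := by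
    intro f hf hχ
    have hu : IsUnit (1 - f) := by
      by_contra hu
      obtain ⟨m, hm, hmem⟩ := exists_max_ideal_of_mem_nonunits (a := 1 - f) hu
      letI := Ideal.Quotient.field m
      haveI : Module.Finite K (C ⧸ m) := finite_of_finite_type_of_isJacobsonRing K _
      let e := AlgEquiv.ofBijective (Algebra.ofId K (C ⧸ m)) IsAlgClosed.algebraMap_bijective_of_isIntegral
      have h2 : Ideal.Quotient.mk m f = 0 := e.symm.injective ((hχ (e.symm.toAlgHom.comp (Ideal.Quotient.mkₐ K m))).trans
        (map_zero _).symm)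
      have h3 := m.add_mem hmem (Ideal.Quotient.eq_zero_iff_mem.1 h2)
      rw [sub_add_cancel] at h3
      exact hm.ne_top ((Ideal.eq_top_iff_one m).2 h3)
    have := (IsIdempotentElem.iff_eq_one_of_isUnit hu).1 hf.one_sub
    exact sub_eq_self.1 this
  obtain ⟨χ₀, h0⟩ := hpt
  rcases IsIdempotentElem.iff_eq_zero_or_one.1 (hε.map χ₀) with h | h
  · exact Or.inl (key ε hε fun χ => by rw [hχ, ← h0, h])
  · exact Or.inr (sub_eq_zero.1 (key (1 - ε) hε.one_sub fun χ => by rw [map_sub, map_one, hχ, ← h0, h, sub_self])).symm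

/-- The value at a point of an element of the base changed coordinate ring. -/
noncomputable def val (x : K ⊗[R] Coord Q (detEq n)) (g : Matrix (Fin n) (Fin n) K) (hg : IsSol Q (detEq n) g) : K :=
  Algebra.TensorProduct.lift (Algebra.ofId K K) ((homEquiv Q (detEq n) K).symm ⟨g, hg⟩) (fun _ _ => .all _ _) x

/-- Translating by an Eichler transformation does not change the value of an idempotent. -/
theorem val_translate (ε : K ⊗[R] Coord Q (detEq n)) (hε : IsIdempotentElem ε) (g : Matrix (Fin n) (Fin n) K)
    (hg : IsSol Q (detEq n) g) (a x : Fin n → K) (ha : formK Q K a = 0)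
    (hax : QuadraticMap.polarBilin (formK Q K) a x = 0) :
    ∃ hg' : IsSol Q (detEq n) (g * LinearMap.toMatrix' (eich (formK Q K) a x)), val ε _ hg' = val ε g hg := by
  classical
  set q := formK Q K
  let N₁ := LinearMap.toMatrix' (((QuadraticMap.polarBilin q).flip a).smulRight x -
    ((QuadraticMap.polarBilin q).flip x).smulRight a)
  let N₂ := LinearMap.toMatrix' (-(q x • ((QuadraticMap.polarBilin q).flip a).smulRight a))
  have hM : ∀ t : K, LinearMap.toMatrix' (eich q a (t • x)) = 1 + t • N₁ + t ^ 2 • N₂ := by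
    intro t
    have : eich q a (t • x) = LinearMap.id + t • (((QuadraticMap.polarBilin q).flip a).smulRight x -
        ((QuadraticMap.polarBilin q).flip x).smulRight a) +
        t ^ 2 • (-(q x • ((QuadraticMap.polarBilin q).flip a).smulRight a)) := by
      refine LinearMap.ext fun v => ?_
      rw [eich_apply, QuadraticMap.map_smul]
      simp [-QuadraticMap.polarBilin_apply_apply]
      module
    rw [this, map_add, map_add, map_smul, map_smul, LinearMap.toMatrix'_id]
  let G : Matrix (Fin n) (Fin n) (Polynomial K) := g.map Polynomial.C *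
    (1 + (Polynomial.X : Polynomial K) • N₁.map Polynomial.C + (Polynomial.X : Polynomial K) ^ 2 • N₂.map Polynomial.C)
  have hG : ∀ t : K, G.map (Polynomial.evalRingHom t) = g * LinearMap.toMatrix' (eich q a (t • x)) := by
    intro t
    rw [hM, Matrix.map_mul]
    congr 1
    · ext i j; simp
    · ext i j
      by_cases h : i = j <;> simp [h] <;> ring
  have hsol : ∀ t : K, IsSol Q (detEq n) (g * LinearMap.toMatrix' (eich q a (t • x))) := by
    intro t
    have hax' : QuadraticMap.polarBilin q a (t • x) = 0 := by rw [map_smul, hax, smul_zero]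
    obtain ⟨h1, h2⟩ := (isSol_iff_isometry g).1 hg
    rw [isSol_iff_isometry]
    constructor
    · intro v
      rw [Matrix.toLin'_mul, LinearMap.comp_apply, h1, Matrix.toLin'_toMatrix', eich_isometry q ha hax']
    · rw [Matrix.det_mul, h2, one_mul, LinearMap.det_toMatrix', eich_det q ha hax']
  have hGsol : IsSol Q (detEq n) G := by
    rw [isSol_detEq_iff]
    have hev : ∀ t : K, ((wMat Q).map (algebraMap R (Polynomial K))).map (Polynomial.evalRingHom t) =
        (wMat Q).map (algebraMap R K) := fun t => by ext i j; simp [Polynomial.algebraMap_apply]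
    constructor
    · funext s
      refine Polynomial.funext fun t => ?_
      have h1 := congrFun (map_co (Polynomial.evalRingHom t) (Gᵀ * (wMat Q).map (algebraMap R (Polynomial K)) * G)) s
      have h2 := congrFun (map_co (Polynomial.evalRingHom t) ((wMat Q).map (algebraMap R (Polynomial K)))) s
      simp only [Function.comp_apply, Polynomial.coe_evalRingHom] at h1 h2
      rw [h1, h2, ← Polynomial.coe_evalRingHom, Matrix.map_mul, Matrix.map_mul, Matrix.transpose_map, hG, hev]
      exact congrFun ((isSol_detEq_iff Q _).1 (hsol t)).1 s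
    · refine Polynomial.funext fun t => ?_
      rw [← Polynomial.coe_evalRingHom, RingHom.map_det, RingHom.mapMatrix_apply, hG,
        ((isSol_detEq_iff Q _).1 (hsol t)).2, map_one]
  let Φ : K ⊗[R] Coord Q (detEq n) →ₐ[K] Polynomial K :=
    Algebra.TensorProduct.lift (Algebra.ofId K (Polynomial K)) ((homEquiv Q (detEq n) (Polynomial K)).symm ⟨G, hGsol⟩)
      (fun _ _ => .all _ _)
  have hΦ : ∀ t : K, Polynomial.eval t (Φ ε) = val ε _ (hsol t) := by
    intro t
    change ((Polynomial.aeval t).comp Φ) ε = val ε _ (hsol t)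
    refine DFunLike.congr_fun (Algebra.TensorProduct.ext (Algebra.ext_id _ _ _) ?_) ε
    refine Ideal.Quotient.algHom_ext R (MvPolynomial.algHom_ext fun ij => ?_)
    have := congrFun (congrFun (hG t) ij.1) ij.2
    simp only [Matrix.map_apply, Polynomial.coe_evalRingHom] at this
    simpa [Φ, homEquiv] using this
  have hconst : ∀ t : K, Polynomial.eval t (Φ ε) = Polynomial.eval 0 (Φ ε) := by
    intro t
    rcases IsIdempotentElem.iff_eq_zero_or_one.1 (hε.map Φ) with h | h <;> simp [h]
  refine ⟨by simpa using hsol 1, ?_⟩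
  have h0 : g * LinearMap.toMatrix' (eich q a ((0 : K) • x)) = g := by
    rw [hM, zero_smul, zero_pow two_ne_zero, zero_smul, add_zero, add_zero, mul_one]
  have := hconst 1
  rw [hΦ, hΦ] at this
  simp only [one_smul, h0] at this
  exact this

/-- The coordinate ring over an algebraically closed field has only trivial idempotents. -/
theorem idempotent_trivial (hn : Odd n) (hQ : IsUnit (hd (co (wMat Q)))) (ε : K ⊗[R] Coord Q (detEq n))
    (hε : IsIdempotentElem ε) : ε = 0 ∨ ε = 1 := by
  classical
  set q := formK Q K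
  have hP : ∀ l, El q l → ∀ (g : Matrix (Fin n) (Fin n) K) (hg : IsSol Q (detEq n) g),
      ∃ hg' : IsSol Q (detEq n) (g * LinearMap.toMatrix' l), val ε _ hg' = val ε g hg := by
    intro l hl
    induction hl with
    | one => intro g hg; simp only [LinearMap.toMatrix'_id, mul_one]; exact ⟨hg, trivial⟩
    | @step a x ha hax t _ ih =>
      intro g hg
      obtain ⟨hg₁, e1⟩ := val_translate ε hε g hg a x ha hax
      obtain ⟨hg₂, e2⟩ := ih _ hg₁
      simp only [LinearMap.toMatrix'_comp, ← Matrix.mul_assoc]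
      exact ⟨hg₂, e2.trans e1⟩
  have h1 : IsSol Q (detEq n) (1 : Matrix (Fin n) (Fin n) K) := (isSol_iff_isometry 1).2 ⟨fun v => by simp, Matrix.det_one⟩
  have hall : ∀ (g : Matrix (Fin n) (Fin n) K) (hg : IsSol Q (detEq n) g), val ε g hg = val ε 1 h1 := by
    intro g hg
    obtain ⟨hi, hd'⟩ := (isSol_iff_isometry g).1 hg
    have hel := mem_el (K := K) n (Fin n → K) q (Module.finrank_fin_fun K) hn (radAniso_formK hn hQ) (Matrix.toLin' g) hi
      (by rw [LinearMap.det_toLin', hd'])
    obtain ⟨hg', e⟩ := hP _ hel 1 h1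
    simp only [LinearMap.toMatrix'_toLin', one_mul] at e
    exact e
  haveI : Algebra.FiniteType K (K ⊗[R] Coord Q (detEq n)) := inferInstance
  refine eq_zero_or_one_of_points (K := K) ε hε (fun χ => ?_) ⟨Algebra.TensorProduct.lift (Algebra.ofId K K)
    ((homEquiv Q (detEq n) K).symm ⟨1, h1⟩) (fun _ _ => .all _ _), rfl⟩
  set φ := (χ.restrictScalars R).comp Algebra.TensorProduct.includeRight
  change χ ε = val ε 1 h1
  rw [← hall _ (homEquiv Q (detEq n) K φ).2, val]
  simp only [Subtype.coe_eta, Equiv.symm_apply_apply]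
  refine DFunLike.congr_fun (Algebra.TensorProduct.ext (Algebra.ext_id _ _ _) ?_) ε
  ext z
  simp [φ]

omit [IsAlgClosed K]

theorem preconnected_of_idempotents {C : Type u} [CommRing C] (h : ∀ e : C, IsIdempotentElem e → e = 0 ∨ e = 1) :
    PreconnectedSpace (PrimeSpectrum C) := by
  refine preconnectedSpace_iff_clopen.2 fun s hs => ?_
  obtain ⟨e, he, rfl⟩ := PrimeSpectrum.exists_idempotent_basicOpen_eq_of_isClopen hs
  rcases h e he with rfl | rfl <;> simp

/-- A fibre is connected when its base change to a field has trivial idempotents. -/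
theorem isConnected_fibre_of_idempotents {A : Type u} [CommRing A] [Algebra R A] (p : PrimeSpectrum R) {K : Type u}
    [Field K] [Algebra p.asIdeal.ResidueField K] [Algebra R K] [IsScalarTower R p.asIdeal.ResidueField K]
    [Nontrivial (K ⊗[R] A)] (h : ∀ e : K ⊗[R] A, IsIdempotentElem e → e = 0 ∨ e = 1) :
    IsConnected (PrimeSpectrum.comap (algebraMap R A) ⁻¹' {p}) := by
  classical
  haveI := preconnected_of_idempotents (C := K ⊗[R] A) h
  haveI : ConnectedSpace (PrimeSpectrum (K ⊗[R] A)) := { toNonempty := inferInstance }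
  let f : A →+* K ⊗[R] A :=
    (Algebra.TensorProduct.includeRight : A →ₐ[R] K ⊗[R] A).toRingHom
  suffices h : PrimeSpectrum.comap (algebraMap R (A)) ⁻¹' {p} = Set.range (PrimeSpectrum.comap f) by
    rw [h]
    exact isConnected_range (α := PrimeSpectrum (K ⊗[R] A)) (by exact PrimeSpectrum.continuous_comap f)
  refine Set.Subset.antisymm ?_ ?_
  · intro q hq
    have hqp : q.asIdeal.comap (algebraMap R (A)) = p.asIdeal :=
      congrArg PrimeSpectrum.asIdeal (Set.mem_singleton_iff.1 hq)
    haveI : q.asIdeal.LiesOver p.asIdeal := ⟨hqp.symm⟩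
    let k := p.asIdeal.ResidueField
    let L := q.asIdeal.ResidueField
    letI : Algebra k L := (Ideal.ResidueField.map p.asIdeal q.asIdeal (algebraMap R (A)) hqp.symm).toAlgebra
    haveI : IsScalarTower R k L := IsScalarTower.of_algebraMap_eq fun r => by
      rw [RingHom.algebraMap_toAlgebra]
      exact ((IsScalarTower.algebraMap_apply R A L r).trans (Ideal.ResidueField.map_algebraMap p.asIdeal q.asIdeal (algebraMap R A) hqp.symm r).symm)
    obtain ⟨m, hm⟩ := Ideal.exists_maximal (K ⊗[k] L)
    let ψ : K ⊗[R] A →ₐ[R] (K ⊗[k] L) ⧸ m :=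
      (Ideal.Quotient.mkₐ R m).comp (Algebra.TensorProduct.lift
        ((Algebra.TensorProduct.includeLeft : K →ₐ[K] K ⊗[k] L).restrictScalars R)
        (((Algebra.TensorProduct.includeRight : L →ₐ[k] K ⊗[k] L).restrictScalars R).comp
          (IsScalarTower.toAlgHom R (A) L)) (fun _ _ => .all _ _))
    refine ⟨⟨RingHom.ker ψ, RingHom.ker_isPrime ψ⟩, PrimeSpectrum.ext ?_⟩
    change (RingHom.ker ψ).comap f = q.asIdeal
    ext z
    letI := Ideal.Quotient.field m
    let j : L →+* (K ⊗[k] L) ⧸ m :=
      (Ideal.Quotient.mk m).comp (Algebra.TensorProduct.includeRight : L →ₐ[k] K ⊗[k] L).toRingHom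
    rw [Ideal.mem_comap, RingHom.mem_ker]
    have : ψ (f z) = j (algebraMap _ L z) := by simp [ψ, f, j]
    rw [this, map_eq_zero_iff j j.injective, Ideal.algebraMap_residueField_eq_zero]
  · rintro _ ⟨P, rfl⟩
    refine PrimeSpectrum.ext ?_
    have hcomm : f.comp (algebraMap R (A)) = (algebraMap K (K ⊗[R] A)).comp (algebraMap R K) := by
      ext r
      simp [f, ← IsScalarTower.algebraMap_apply]
    change (P.asIdeal.comap f).comap (algebraMap R (A)) = p.asIdeal
    rw [Ideal.comap_comap, hcomm, ← Ideal.comap_comap]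
    rw [((P.asIdeal.comap (algebraMap K (K ⊗[R] A))).eq_bot_or_top).resolve_right
      (Ideal.comap_ne_top _ P.isPrime.ne_top)]
    ext r
    rw [Ideal.mem_comap, Ideal.mem_bot, IsScalarTower.algebraMap_apply R p.asIdeal.ResidueField K,
      map_eq_zero, Ideal.algebraMap_residueField_eq_zero]


/-- The fibres of the coordinate ring are connected. -/
theorem isConnected_fibre (hn : Odd n) (hQ : IsUnit (hd (co (wMat Q)))) (p : PrimeSpectrum R) :
    IsConnected (PrimeSpectrum.comap (algebraMap R (Coord Q (detEq n))) ⁻¹' {p}) := by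
  classical
  haveI : Nontrivial (AlgebraicClosure p.asIdeal.ResidueField ⊗[R] Coord Q (detEq n)) :=
    (Algebra.TensorProduct.lift (Algebra.ofId (AlgebraicClosure p.asIdeal.ResidueField) _)
      ((homEquiv Q (detEq n) (AlgebraicClosure p.asIdeal.ResidueField)).symm
        ⟨1, (isSol_iff_isometry 1).2 ⟨fun v => by simp, Matrix.det_one⟩⟩) (fun _ _ => .all _ _)).toRingHom.domain_nontrivial
  exact isConnected_fibre_of_idempotents (A := Coord Q (detEq n)) (K := AlgebraicClosure p.asIdeal.ResidueField) p
    (fun e he => idempotent_trivial (K := AlgebraicClosure p.asIdeal.ResidueField) hn hQ e he)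

end Groth.Agent.OrthSmooth
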