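import Groth.Agent.OrthSmooth.Main
import Mathlib.RingTheory.RingHom.StandardSmooth
import Mathlib.Algebra.DualNumber
import Mathlib.Data.Sym.Card
import Mathlib.RingTheory.Smooth.StandardSmoothOfFree
import Mathlib.RingTheory.Smooth.StandardSmoothCotangent
import Mathlib.RingTheory.RingHom.Locally

/-!
# The relative dimension of the special orthogonal group in odd rank
-/

set_option autoImplicit false

universe u

namespace Groth.Agent.OrthSmooth

open QuadGrp Matrix Groth.Agent.QuadHalfDisc MvPolynomial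

variable {n : ℕ}

theorem co_single_map {A B : Type u} [CommRing A] [CommRing B] (f : A →+* B) (i : Fin n) :
    (Matrix.single i i (1 : A)).map f = Matrix.single i i 1 := by
  ext a b
  simp [Matrix.single_apply, apply_ite f]

/-- The half-discriminant is affine in a diagonal coefficient. -/
theorem hd_diag {A : Type u} [CommRing A] (hn : Odd n) (i : Fin n) (V : Matrix (Fin n) (Fin n) A) (c : A) :
    hd (co (V + c • Matrix.single i i 1)) = hd (co V) + c * (V + Vᵀ).adjugate i i := by
  classical
  let S := MvPolynomial ((Fin n × Fin n) ⊕ Unit) ℤ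
  let Y : Matrix (Fin n) (Fin n) S := Matrix.of fun a b => X (Sum.inl (a, b))
  let t : S := X (Sum.inr ())
  have key : hd (co (Y + t • Matrix.single i i 1)) = hd (co Y) + t * (Y + Yᵀ).adjugate i i := by
    refine mul_left_cancel₀ (two_ne_zero (α := S)) ?_
    rw [mul_add, two_hd hn, two_hd hn]
    have h1 : Y + t • Matrix.single i i 1 + (Y + t • Matrix.single i i 1)ᵀ =
        (Y + Yᵀ).updateRow i ((Y + Yᵀ) i + (2 * t) • Pi.single i 1) := by
      refine Matrix.ext fun a b => ?_
      by_cases ha : a = i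
      · subst ha
        by_cases hb : b = a
        · subst hb
          simp [Matrix.single_apply]
          ring
        · simp [Matrix.single_apply, hb, Ne.symm hb]
      · simp [Matrix.single_apply, ha, Ne.symm ha]
    rw [h1, Matrix.det_updateRow_add, Matrix.updateRow_eq_self, Matrix.det_updateRow_smul, Matrix.adjugate_apply]
    ring
  let val : (Fin n × Fin n) ⊕ Unit → A := Sum.elim (fun p : Fin n × Fin n => V p.1 p.2) fun _ => c
  let φ : S →+* A := eval₂Hom (Int.castRingHom A) val
  have hφt : φ t = c := eval₂Hom_X' _ _ _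
  have hY : Y.map φ = V := Matrix.ext fun a b => eval₂Hom_X' _ _ _
  have hYc : (Y + t • Matrix.single i i 1).map φ = V + c • Matrix.single i i 1 := by
    rw [Matrix.map_add _ (map_add φ), hY]
    ext a b
    simp [Matrix.single_apply, apply_ite φ, hφt]
  have h := congrArg φ key
  rw [map_hd_co, map_add, map_hd_co, map_mul, hY, hYc, hφt] at h
  rw [h]
  congr 2
  have h2 := RingHom.map_adjugate φ (Y + Yᵀ)
  rw [RingHom.mapMatrix_apply, RingHom.mapMatrix_apply, Matrix.map_add _ (map_add φ), Matrix.transpose_map,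
    hY] at h2
  exact congrFun (congrFun h2 i) i

/-- The entries of the universal solution. -/
noncomputable def univSolEntry {R : Type u} [CommRing R] {n : ℕ} (Q : QuadraticForm R (Fin n → R)) (i j : Fin n) :
    Coord Q (detEq n) :=
  Ideal.Quotient.mk _ (MvPolynomial.X (i, j))

/-- The universal solution. -/
noncomputable def univSolMat {R : Type u} [CommRing R] {n : ℕ} (Q : QuadraticForm R (Fin n → R)) :
    Matrix (Fin n) (Fin n) (Coord Q (detEq n)) :=
  Matrix.of fun i j => univSolEntry Q i j

theorem algHom_ext_mat {R : Type u} [CommRing R] {n : ℕ} (Q : QuadraticForm R (Fin n → R)) {B : Type u} [CommRing B]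
    [Algebra R B] {f g : Coord Q (detEq n) →ₐ[R] B} (h : (univSolMat Q).map f = (univSolMat Q).map g) : f = g :=
  Ideal.Quotient.algHom_ext R (MvPolynomial.algHom_ext fun ij => congrFun (congrFun h ij.1) ij.2)

section Field

variable {K : Type u} [Field K]

theorem hdL_map {A B : Type u} [CommRing A] [CommRing B] (f : A →+* B) (x a : Sym2 (Fin n) → A) :
    f (hdL x a) = hdL (f ∘ x) (f ∘ a) := by
  rw [hdL, dif, map_sum, hdL, dif]
  refine Finset.sum_congr rfl fun s _ => ?_
  rw [map_mul]
  congr 1
  refine RingHom.congr_fun (?_ : f.comp (eval₂Hom (Int.castRingHom A) x) = _) _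
  ext <;> simp

/-- The inclusion of constants in the dual numbers. -/
noncomputable abbrev cst : K →+* DualNumber K := TrivSqZeroExt.inlHom K K

theorem eps_ideal_sq : (Ideal.span {(DualNumber.eps : DualNumber K)}) ^ 2 = ⊥ := by
  rw [Ideal.span_singleton_pow, Ideal.span_singleton_eq_bot, sq, DualNumber.eps_mul_eps]

theorem snd_eps_mul (x : DualNumber K) : TrivSqZeroExt.snd (DualNumber.eps * x) = TrivSqZeroExt.fst x := by
  simp [TrivSqZeroExt.snd_mul, DualNumber.fst_eps, DualNumber.snd_eps]

theorem eps_smul_mem (M : Matrix (Fin n) (Fin n) (DualNumber K)) (a b : Fin n) :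
    ((DualNumber.eps : DualNumber K) • M) a b ∈ Ideal.span {(DualNumber.eps : DualNumber K)} :=
  Ideal.mul_mem_right _ _ (Ideal.subset_span rfl)

theorem co_eps_map (M : Matrix (Fin n) (Fin n) K) :
    co ((DualNumber.eps : DualNumber K) • M.map cst) = (DualNumber.eps : DualNumber K) • (cst ∘ co M) := by
  rw [co_smul, map_co cst M]

theorem hd_eps (V d : Matrix (Fin n) (Fin n) K) :
    hd (co (V.map cst + (DualNumber.eps : DualNumber K) • d.map cst)) =
      cst (hd (co V)) + DualNumber.eps * cst (hdL (co V) (co d)) := by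
  rw [co_add, hd_add (eps_ideal_sq (K := K)) (co (V.map cst)) (co_mem (eps_smul_mem (d.map cst))), co_eps_map,
    ← map_co cst V, ← map_hd, hdL, dif_smul, hdL_map cst (co V) (co d)]
  rfl

theorem hdL_polar (hn : Odd n) (V h : Matrix (Fin n) (Fin n) K) :
    hdL (co V) (co ((V + Vᵀ) * h)) = 2 * h.trace * hd (co V) := by
  have e := hdL_polar_mul (eps_ideal_sq (K := K)) hn (V.map cst) (eps_smul_mem (h.map cst))
  rw [← Matrix.transpose_map, ← Matrix.map_add _ (map_add cst), Matrix.mul_smul, ← Matrix.map_mul, co_eps_map, hdL,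
    dif_smul, Matrix.trace_smul, ← map_hd_co cst V, ← map_co cst V] at e
  change DualNumber.eps * hdL (cst ∘ co V) (cst ∘ co ((V + Vᵀ) * h)) = _ at e
  rw [← hdL_map, show (h.map cst).trace = cst h.trace by simp [Matrix.trace, map_sum], smul_eq_mul] at e
  have e' := congrArg TrivSqZeroExt.snd e
  rw [snd_eps_mul, show 2 * (DualNumber.eps * cst h.trace) * cst (hd (co V)) =
    DualNumber.eps * cst (2 * h.trace * hd (co V)) by simp only [map_mul, map_ofNat]; ring, snd_eps_mul] at e'
  simpa using e'

theorem hdL_single (hn : Odd n) (V : Matrix (Fin n) (Fin n) K) (i : Fin n) :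
    hdL (co V) (co (Matrix.single i i 1)) = (V + Vᵀ).adjugate i i := by
  have e := hd_diag hn i (V.map cst) DualNumber.eps
  rw [← co_single_map cst, hd_eps, ← map_hd_co cst V, add_right_inj, ← Matrix.transpose_map,
    ← Matrix.map_add _ (map_add cst), ← RingHom.mapMatrix_apply, ← RingHom.map_adjugate] at e
  have e' := congrArg TrivSqZeroExt.snd e
  rw [snd_eps_mul, snd_eps_mul] at e'
  simpa using e'

theorem co_tangent (V h : Matrix (Fin n) (Fin n) K) :
    co ((1 + (DualNumber.eps : DualNumber K) • h.map cst)ᵀ * V.map cst *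
        (1 + (DualNumber.eps : DualNumber K) • h.map cst)) =
      cst ∘ co V + (DualNumber.eps : DualNumber K) • (cst ∘ co ((V + Vᵀ) * h)) := by
  rw [co_one_add (eps_ideal_sq (K := K)) (V.map cst) (eps_smul_mem (h.map cst)), ← map_co cst V, ← Matrix.transpose_map,
    ← Matrix.map_add _ (map_add cst), Matrix.mul_smul, ← Matrix.map_mul, co_eps_map]

theorem det_tangent (h : Matrix (Fin n) (Fin n) K) :
    (1 + (DualNumber.eps : DualNumber K) • h.map cst).det = 1 + DualNumber.eps * cst h.trace := by
  rw [det_one_add (eps_ideal_sq (K := K)) (eps_smul_mem (h.map cst)), Matrix.trace_smul, smul_eq_mul]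
  simp [Matrix.trace, map_sum]

/-- The linearised equations. -/
noncomputable def tanMap (V : Matrix (Fin n) (Fin n) K) :
    Matrix (Fin n) (Fin n) K →ₗ[K] (Sym2 (Fin n) → K) × K where
  toFun h := (co ((V + Vᵀ) * h), h.trace)
  map_add' h h' := by rw [Matrix.mul_add, co_add, Matrix.trace_add]; rfl
  map_smul' r h := by rw [Matrix.mul_smul, co_smul, Matrix.trace_smul]; rfl

theorem range_tanMap (hn : Odd n) (V : Matrix (Fin n) (Fin n) K) (hV : hd (co V) ≠ 0) (δ : Sym2 (Fin n) → K) (t : K)
    (h : hdL (co V) δ = 2 * t * hd (co V)) : (δ, t) ∈ LinearMap.range (tanMap V) := by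
  classical
  obtain ⟨i₀⟩ : Nonempty (Fin n) := ⟨⟨0, hn.pos⟩⟩
  set V' := V.map cst with hV'
  set I : Ideal (DualNumber K) := Ideal.span {DualNumber.eps}
  have hI : I ^ 2 = ⊥ := eps_ideal_sq
  have hεI : ∀ x : DualNumber K, DualNumber.eps * x ∈ I := fun x => Ideal.mul_mem_right _ _ (Ideal.subset_span rfl)
  set h₁ : Matrix (Fin n) (Fin n) K := t • Matrix.single i₀ i₀ 1
  set δ' := δ - co ((V + Vᵀ) * h₁)
  have hδ' : hdL (co V) (co (up δ')) = 0 := by
    have e4 : hdL (co V) δ' = hdL (co V) δ - hdL (co V) (co ((V + Vᵀ) * h₁)) := by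
      rw [eq_sub_iff_add_eq, hdL, hdL, ← dif_add]
      exact congrArg _ (sub_add_cancel δ _)
    rw [co_up, e4, hdL_polar hn, h, show h₁.trace = t by simp [h₁, Matrix.trace_smul, Matrix.trace_single_eq_same],
      sub_self]
  have hd' : ∀ a b, ((DualNumber.eps : DualNumber K) • (up δ').map cst) a b ∈ I := eps_smul_mem _
  have hV'u : IsUnit (hd (co V')) := by
    rw [hV', ← map_hd_co]
    exact (isUnit_iff_ne_zero.2 hV).map cst
  obtain ⟨h₂, hh₂, htr, hco⟩ := exists_corr_odd hI hn V' _ hV'u hd'
    (by rw [hV', hd_eps, hδ', map_zero, mul_zero, add_zero, map_hd_co cst V])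
  choose c hc using fun a b => Ideal.mem_span_singleton'.1 (hh₂ a b)
  set h₀ : Matrix (Fin n) (Fin n) K := Matrix.of fun a b => TrivSqZeroExt.fst (c a b)
  have hh₂' : h₂ = (DualNumber.eps : DualNumber K) • Matrix.of c := Matrix.ext fun a b => by
    rw [← hc a b, Matrix.smul_apply, Matrix.of_apply, smul_eq_mul, mul_comm]
  refine ⟨h₀ + h₁, Prod.ext ?_ ?_⟩
  · change co ((V + Vᵀ) * (h₀ + h₁)) = δ
    rw [Matrix.mul_add, co_add, ← eq_sub_iff_add_eq]
    funext s
    have e := congrArg TrivSqZeroExt.snd (congrFun hco s)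
    rw [hh₂', Matrix.mul_smul, co_smul, co_smul, Pi.smul_apply, Pi.smul_apply, smul_eq_mul, smul_eq_mul,
      snd_eps_mul, snd_eps_mul] at e
    let f : DualNumber K →+* K := (TrivSqZeroExt.fstHom K K K).toRingHom
    have hf : ∀ W : Matrix (Fin n) (Fin n) (DualNumber K), TrivSqZeroExt.fst (co W s) = co (W.map f) s := fun W =>
      congrFun (map_co f W) s
    rw [hf, hf, Matrix.map_mul, Matrix.map_add _ (map_add f), Matrix.transpose_map] at e
    have hfc : ∀ W : Matrix (Fin n) (Fin n) K, (W.map cst).map f = W := fun W => Matrix.ext fun a b => by simp [f]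
    rw [hV', hfc, hfc, co_up] at e
    exact e
  · change (h₀ + h₁).trace = t
    rw [Matrix.trace_add, show h₁.trace = t by simp [h₁, Matrix.trace_smul, Matrix.trace_single_eq_same],
      add_eq_right]
    have e := congrArg TrivSqZeroExt.snd htr
    rw [hh₂', Matrix.trace_smul, smul_eq_mul, snd_eps_mul, TrivSqZeroExt.snd_zero] at e
    rw [← e]
    simp [h₀, Matrix.trace]
    exact (map_sum (TrivSqZeroExt.fstHom K K K) _ _).symm

theorem finrank_ker_tanMap (m : ℕ) (V : Matrix (Fin (2 * m + 1)) (Fin (2 * m + 1)) K) (hV : hd (co V) ≠ 0) :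
    Module.finrank K (LinearMap.ker (tanMap V)) = m * (2 * m + 1) := by
  classical
  have hn : Odd (2 * m + 1) := odd_two_mul_add_one m
  let Λ : ((Sym2 (Fin (2 * m + 1)) → K) × K) →ₗ[K] K :=
    { toFun := fun x => hdL (co V) x.1 - 2 * x.2 * hd (co V)
      map_add' := fun x y => by
        simp only [Prod.fst_add, Prod.snd_add, hdL, dif_add]
        ring
      map_smul' := fun r x => by
        simp only [Prod.smul_fst, Prod.smul_snd, hdL, dif_smul, smul_eq_mul, RingHom.id_apply]
        ring }
  have hrange : LinearMap.range (tanMap V) = LinearMap.ker Λ := by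
    refine le_antisymm ?_ fun (x : (Sym2 (Fin (2 * m + 1)) → K) × K) hx => range_tanMap hn V hV x.1 x.2 (sub_eq_zero.1 hx)
    rintro _ ⟨h, rfl⟩
    exact sub_eq_zero.2 (hdL_polar hn V h)
  have hsurj : LinearMap.range Λ = ⊤ := by
    refine LinearMap.range_eq_top.2 (LinearMap.surjective fun h0 => ?_)
    by_cases h2 : (2 : K) = 0
    · obtain ⟨i, e, -, -, hadj, -⟩ := exists_radical hn h2 V hV
      refine hadj ?_
      have e4 := LinearMap.congr_fun h0 ((co (Matrix.single i i (1 : K)), 0) : (Sym2 (Fin (2 * m + 1)) → K) × K)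
      simpa [Λ, hdL_single hn] using e4
    · refine mul_ne_zero h2 hV ?_
      have e := LinearMap.congr_fun h0 (((0 : Sym2 (Fin (2 * m + 1)) → K), -1) : (Sym2 (Fin (2 * m + 1)) → K) × K)
      simpa [Λ, hdL, dif] using e
  have h1 := LinearMap.finrank_range_add_finrank_ker (tanMap V)
  have h2 := LinearMap.finrank_range_add_finrank_ker Λ
  rw [hsurj, finrank_top, Module.finrank_self, Module.finrank_prod, Module.finrank_fintype_fun_eq_card, Sym2.card,
    Module.finrank_self, Fintype.card_fin, Nat.choose_two_right, ← hrange] at h2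
  rw [Module.finrank_matrix, Fintype.card_fin, Module.finrank_self, mul_one] at h1
  have h3 : (2 * m + 1 + 1) * (2 * m + 1 + 1 - 1) / 2 = (m + 1) * (2 * m + 1) := by
    rw [Nat.add_sub_cancel, show (2 * m + 1 + 1) * (2 * m + 1) = (m + 1) * (2 * m + 1) * 2 by ring,
      Nat.mul_div_cancel _ two_pos]
  rw [h3] at h2
  nlinarith

end Field

variable {R : Type u} [CommRing R] {m : ℕ} {Q : QuadraticForm R (Fin (2 * m + 1) → R)}

theorem isSol_perturb {K : Type u} [Field K] [Algebra R K] (g h : Matrix (Fin n) (Fin n) K)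
    {Q : QuadraticForm R (Fin n → R)} (hg : IsSol Q (detEq n) g) :
    IsSol Q (detEq n) (g.map cst * (1 + (DualNumber.eps : DualNumber K) • h.map cst)) ↔
      h ∈ LinearMap.ker (tanMap (gᵀ * (wMat Q).map (algebraMap R K) * g)) := by
  set W := (wMat Q).map (algebraMap R K)
  set V := gᵀ * W * g
  obtain ⟨hg1, hg2⟩ := (isSol_detEq_iff Q g).1 hg
  have hW : W.map cst = (wMat Q).map (algebraMap R (DualNumber K)) := by
    exact Matrix.ext fun a b => rfl
  have hassoc : (g.map cst * (1 + (DualNumber.eps : DualNumber K) • h.map cst))ᵀ * W.map cst *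
      (g.map cst * (1 + (DualNumber.eps : DualNumber K) • h.map cst)) =
      (1 + (DualNumber.eps : DualNumber K) • h.map cst)ᵀ * V.map cst *
        (1 + (DualNumber.eps : DualNumber K) • h.map cst) := by
    simp only [V, Matrix.map_mul, Matrix.transpose_map, Matrix.transpose_mul, Matrix.mul_assoc]
  rw [isSol_detEq_iff, ← hW, LinearMap.mem_ker, tanMap]
  have hco := (congrArg co hassoc).trans (co_tangent V h)
  rw [show co V = co W from hg1] at hco
  have hdet : (g.map cst * (1 + (DualNumber.eps : DualNumber K) • h.map cst)).det =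
      1 + DualNumber.eps * cst h.trace := by
    rw [Matrix.det_mul, det_tangent, ← RingHom.mapMatrix_apply, ← RingHom.map_det, hg2, map_one, one_mul]
  rw [hco, hdet, ← map_co cst W]
  simp only [LinearMap.coe_mk, AddHom.coe_mk, Prod.mk_eq_zero, add_eq_left]
  refine and_congr ⟨fun e => funext fun s => ?_, fun e => by rw [e]; funext s; simp⟩
    ⟨fun e => ?_, fun e => by rw [e, map_zero, mul_zero]⟩
  · simpa [snd_eps_mul] using congrArg TrivSqZeroExt.snd (congrFun e s)
  · simpa [snd_eps_mul] using congrArg TrivSqZeroExt.snd e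

/-- The algebra map into the dual numbers attached to a point and a functional on differentials. -/
noncomputable def tanHom {C K : Type u} [CommRing C] [Algebra R C] [Field K] [Algebra C K] [Algebra R K]
    [IsScalarTower R C K] (l : Ω[C⁄R] →ₗ[C] K) : C →ₐ[R] DualNumber K where
  toFun c := TrivSqZeroExt.inl (algebraMap C K c) + TrivSqZeroExt.inr (l (KaehlerDifferential.D R C c))
  map_one' := by simp
  map_zero' := by simp
  map_add' x y := TrivSqZeroExt.ext (by simp) (by simp)
  map_mul' x y := TrivSqZeroExt.ext (by simp) (by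
    simp [Derivation.leibniz, Algebra.smul_def, TrivSqZeroExt.algebraMap_eq_inl']; ring)
  commutes' r := TrivSqZeroExt.ext
    (by simp [TrivSqZeroExt.algebraMap_eq_inl', ← IsScalarTower.algebraMap_apply])
    (by simp [TrivSqZeroExt.algebraMap_eq_inl'])

/-- The rank of the differentials of a piece of the group. -/
theorem card_basis_kaehler (hQ : IsUnit (hd (co (wMat Q)))) {C K : Type u} [CommRing C] [Algebra R C] [Field K]
    [Algebra C K] [Algebra R K] [IsScalarTower R C K] (f : Coord Q (detEq (2 * m + 1)))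
    (ι : Coord Q (detEq (2 * m + 1)) →ₐ[R] C) (hf : IsUnit (ι f))
    (hext : ∀ {B : Type u} [CommRing B] [Algebra R B] (φ ψ : C →ₐ[R] B), φ.comp ι = ψ.comp ι → φ = ψ)
    (hlift : ∀ {B : Type u} [CommRing B] [Algebra R B] (φ : Coord Q (detEq (2 * m + 1)) →ₐ[R] B),
      IsUnit (φ f) → ∃ Φ : C →ₐ[R] B, Φ.comp ι = φ)
    {σ : Type u} [Fintype σ] (b : Module.Basis σ C Ω[C⁄R]) : Fintype.card σ = m * (2 * m + 1) := by
  classical
  let π : C →ₐ[R] K := IsScalarTower.toAlgHom R C K
  let g := (homEquiv Q _ K (π.comp ι))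
  have hg2 := ((isSol_detEq_iff Q g.1).1 g.2).2
  set V := g.1ᵀ * (wMat Q).map (algebraMap R K) * g.1
  have hV : hd (co V) ≠ 0 := by
    rw [hd_congr (odd_two_mul_add_one m), hg2, one_pow, one_mul]
    exact (isUnit_hd_map hQ K).ne_zero
  -- linear functionals on the differentials as tangent vectors
  let Θ : (σ → K) →ₗ[K] Matrix (Fin (2 * m + 1)) (Fin (2 * m + 1)) K :=
    { toFun := fun v => g.1.adjugate * Matrix.of fun i j =>
        b.constr K v (KaehlerDifferential.D R C (ι (univSolEntry Q i j)))
      map_add' := fun v w => by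
        rw [← Matrix.mul_add]; congr 1; ext i j; simp
      map_smul' := fun r v => by
        rw [RingHom.id_apply, ← Matrix.mul_smul]; congr 1; ext i j; simp }
  let ψ : (Ω[C⁄R] →ₗ[C] K) → (C →ₐ[R] DualNumber K) := fun l => tanHom l
  have hmat : ∀ v, (univSolMat Q).map ((ψ (b.constr K v)).comp ι) =
      g.1.map cst * (1 + (DualNumber.eps : DualNumber K) • (Θ v).map cst) := by
    intro v
    rw [Matrix.mul_add, Matrix.mul_one, Matrix.mul_smul, ← Matrix.map_mul]
    simp only [Θ, LinearMap.coe_mk, AddHom.coe_mk]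
    rw [← Matrix.mul_assoc, Matrix.mul_adjugate, hg2, one_smul, Matrix.one_mul]
    ext i j <;> simp [ψ, tanHom, π, g, homEquiv, univSolMat, univSolEntry, snd_eps_mul, TrivSqZeroExt.fst_sum]
  have hker : ∀ v, Θ v ∈ LinearMap.ker (tanMap V) := by
    intro v
    rw [← isSol_perturb g.1 (Θ v) g.2, ← hmat]
    exact (homEquiv Q _ (DualNumber K) ((ψ (b.constr K v)).comp ι)).2
  have hinj : ∀ v, Θ v = 0 → v = 0 := by
    intro v hv
    have h1 : (ψ (b.constr K v)).comp ι = (ψ (0 : Ω[C⁄R] →ₗ[C] K)).comp ι := by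
      refine algHom_ext_mat Q ?_
      rw [hmat, hv]
      have := hmat 0
      rw [map_zero, map_zero] at this
      exact this.symm
    have h2 : ψ (b.constr K v) = ψ 0 := hext _ _ h1
    have h3 : ∀ c, b.constr K v (KaehlerDifferential.D R C c) = 0 := fun c => by
      simpa [ψ, tanHom] using congrArg TrivSqZeroExt.snd (AlgHom.congr_fun h2 c)
    refine (b.constr K).injective ?_
    rw [map_zero]
    refine LinearMap.ext_on (KaehlerDifferential.span_range_derivation R C) ?_
    rintro _ ⟨c, rfl⟩
    simpa using h3 c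
  have hsurj : ∀ h ∈ LinearMap.ker (tanMap V), ∃ v, Θ v = h := by
    intro h hh
    let φ := (homEquiv Q _ (DualNumber K)).symm ⟨_, (isSol_perturb g.1 h g.2).2 hh⟩
    have hφ : (univSolMat Q).map φ = g.1.map cst * (1 + (DualNumber.eps : DualNumber K) • h.map cst) := by
      ext i j : 1
      simp [φ, homEquiv, univSolMat, univSolEntry]
    have hfst : (TrivSqZeroExt.fstHom R K K).comp φ = π.comp ι := by
      refine algHom_ext_mat Q ?_
      rw [AlgHom.coe_comp, ← Matrix.map_map, hφ]
      ext i j
      simp [g, π, homEquiv, univSolMat, univSolEntry, Matrix.mul_apply, Matrix.one_apply, mul_ite, apply_ite TrivSqZeroExt.fst]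
    have hu : IsUnit (φ f) := by
      rw [TrivSqZeroExt.isUnit_iff_isUnit_fst]
      have : TrivSqZeroExt.fst (φ f) = π (ι f) := AlgHom.congr_fun hfst f
      rw [this]
      exact hf.map π
    obtain ⟨Φ, hΦ⟩ := hlift φ hu
    have hπ : ∀ c, TrivSqZeroExt.fst (Φ c) = π c := fun c => by
      have : (TrivSqZeroExt.fstHom R K K).comp Φ = π := hext _ _ (by
        rw [AlgHom.comp_assoc, hΦ, hfst])
      exact AlgHom.congr_fun this c
    let δ : Derivation R C K :=
      { toLinearMap := ((TrivSqZeroExt.sndHom K K).restrictScalars R).comp Φ.toLinearMap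
        map_one_eq_zero' := by simp
        leibniz' := fun x y => by
          simp [hπ, Algebra.smul_def, π]; ring }
    refine ⟨fun i => δ.liftKaehlerDifferential (b i), ?_⟩
    have hl : b.constr K (fun i => δ.liftKaehlerDifferential (b i)) = δ.liftKaehlerDifferential :=
      b.constr_self K δ.liftKaehlerDifferential
    simp only [Θ, LinearMap.coe_mk, AddHom.coe_mk, hl]
    have h5 : (Matrix.of fun i j => δ.liftKaehlerDifferential (KaehlerDifferential.D R C (ι (univSolEntry Q i j)))) =
        g.1 * h := by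
      ext i j
      have h6 := congrArg TrivSqZeroExt.snd (congrFun (congrFun (hΦ.symm ▸ hφ) i) j)
      rw [Matrix.mul_add, Matrix.mul_one, Matrix.mul_smul, ← Matrix.map_mul] at h6
      rw [Matrix.of_apply, Derivation.liftKaehlerDifferential_comp_D]
      simpa [δ, univSolMat, snd_eps_mul, ← Matrix.map_mul] using h6
    rw [h5, ← Matrix.mul_assoc, Matrix.adjugate_mul, hg2, one_smul, Matrix.one_mul]
  rw [← finrank_ker_tanMap m V hV, ← Module.finrank_fintype_fun_eq_card K]
  refine LinearEquiv.finrank_eq (LinearEquiv.ofBijective (Θ.codRestrict _ hker) ⟨?_, ?_⟩)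
  · intro v w h
    exact sub_eq_zero.1 (hinj _ (by rw [map_sub, sub_eq_zero]; exact congrArg Subtype.val h))
  · rintro ⟨h, hh⟩
    obtain ⟨v, hv⟩ := hsurj h hh
    exact ⟨v, Subtype.ext hv⟩

/-- The rank of the differentials of a standard smooth piece. -/
theorem rank_kaehler_piece (hQ : IsUnit (hd (co (wMat Q)))) (f : Coord Q (detEq (2 * m + 1)))
    [Algebra.IsStandardSmooth R (Localization.Away f)] [Nontrivial (Localization.Away f)] :
    Module.rank (Localization.Away f) Ω[Localization.Away f⁄R] = (m * (2 * m + 1) : ℕ) := by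
  classical
  obtain ⟨p, hp⟩ := Ideal.exists_maximal (Localization.Away f)
  rw [rank_eq_card_basis (Module.Free.chooseBasis (Localization.Away f) Ω[Localization.Away f⁄R]),
    card_basis_kaehler hQ (K := p.ResidueField) f (IsScalarTower.toAlgHom R _ (Localization.Away f))
      (IsLocalization.Away.algebraMap_isUnit f) (fun φ ψ h => IsLocalization.algHom_ext (Submonoid.powers f) h)
      (fun φ hu => ⟨IsLocalization.liftAlgHom (M := Submonoid.powers f) (f := φ)
        (fun y => by obtain ⟨k, hk⟩ := y.2; rw [← hk, map_pow]; exact hu.pow k),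
        AlgHom.ext fun x => IsLocalization.lift_eq _ x⟩)
      (Module.Free.chooseBasis (Localization.Away f) Ω[Localization.Away f⁄R])]

open CategoryTheory AlgebraicGeometry in
/-- The scheme of solutions is smooth of relative dimension `m(2m+1)`. -/
theorem smoothOfRelativeDimension_coord (hQ : QuadGrp.IsSemiregular (Pi.basisFun R (Fin (2 * m + 1))) (LinearEquiv.refl R R) Q) :
    AlgebraicGeometry.SmoothOfRelativeDimension (m * (2 * m + 1))
      (Spec.map (CommRingCat.ofHom (algebraMap R (Coord Q (detEq (2 * m + 1)))))) := by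
  classical
  set A := Coord Q (detEq (2 * m + 1))
  have hn : Odd (2 * m + 1) := odd_two_mul_add_one m
  have hQ' : IsNondeg (Pi.basisFun R (Fin (2 * m + 1))) (LinearEquiv.refl R R) Q :=
    ⟨fun h => absurd hn (Nat.not_odd_iff_even.2 h), fun _ => hQ⟩
  haveI hs : Algebra.Smooth R A :=
    { formallySmooth := formallySmooth_sorth' hQ' (Or.inl hn), finitePresentation := inferInstance }
  rw [HasRingHomProperty.Spec_iff (P := @AlgebraicGeometry.SmoothOfRelativeDimension (m * (2 * m + 1))),
    RingHom.locally_iff_span_eq_top]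
  by_contra hne
  obtain ⟨p, hp, hle⟩ := Ideal.exists_le_maximal _ hne
  haveI : Algebra.IsSmoothAt R p := inferInstance
  obtain ⟨f, hfp, hstd⟩ := Algebra.IsSmoothAt.exists_notMem_isStandardSmooth R p
  refine hfp (hle (Ideal.subset_span ?_))
  haveI : Nontrivial (Localization.Away f) := ⟨⟨0, 1, fun h => by
    have h1 : algebraMap A (Localization.Away f) 1 = 0 := by rw [map_one]; exact h.symm
    obtain ⟨⟨y, k, hk⟩, hy⟩ := (IsLocalization.map_eq_zero_iff (Submonoid.powers f) _ _).1 h1
    refine hfp (hp.isPrime.mem_of_pow_mem k ?_)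
    rw [show f ^ k = y from hk, show y = 0 by simpa using hy]
    exact p.zero_mem⟩⟩
  have hd' := (Algebra.IsStandardSmoothOfRelativeDimension.iff_of_isStandardSmooth (R := R) (S := Localization.Away f)
    (m * (2 * m + 1))).2 (rank_kaehler_piece (halfDisc_eq Q ▸ hQ) f)
  change RingHom.IsStandardSmoothOfRelativeDimension _ ((algebraMap A (Localization.Away f)).comp (algebraMap R A))
  rw [← IsScalarTower.algebraMap_eq, RingHom.isStandardSmoothOfRelativeDimension_algebraMap]
  exact hd'

end Groth.Agent.OrthSmooth
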