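import Groth.Agent.OrthSmooth.Bridge
import Mathlib.RingTheory.AdjoinRoot

/-!
# Smoothness of orthogonal groups
-/

set_option autoImplicit false

universe u

namespace Groth.Agent.OrthSmooth

open QuadGrp Matrix Groth.Agent.QuadHalfDisc MvPolynomial

variable {R : Type u} [CommRing R] {n : ℕ} {Q : QuadraticForm R (Fin n → R)}

theorem isSol_empty_iff {A : Type u} [CommRing A] [Algebra R A] (g : Matrix (Fin n) (Fin n) A) :
    IsSol Q ∅ g ↔ co (gᵀ * (wMat Q).map (algebraMap R A) * g) = co ((wMat Q).map (algebraMap R A)) := by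
  simp [IsSol]

theorem isUnit_det_polar (hQ : IsNondeg (Pi.basisFun R (Fin n)) (LinearEquiv.refl R R) Q)
    (h : Even n ∨ IsUnit (2 : R)) : IsUnit (wMat Q + (wMat Q)ᵀ).det := by
  rcases Nat.even_or_odd n with he | ho
  · exact isUnit_det_polar_of_isRegular Q (hQ.1 he)
  · rw [← two_hd ho]
    exact (h.resolve_left (Nat.not_even_iff_odd.2 ho)).mul (halfDisc_eq Q ▸ hQ.2 ho)

theorem formallySmooth_orth (hQ : IsNondeg (Pi.basisFun R (Fin n)) (LinearEquiv.refl R R) Q)
    (h : Even n ∨ IsUnit (2 : R)) : Algebra.FormallySmooth R (Coord Q ∅) := by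
  refine formallySmooth_coord Q ∅ fun B _ _ I hI g hg => ?_
  obtain ⟨g', h1, h2⟩ := exists_lift_regular hI _ g (isUnit_det_polar_map (isUnit_det_polar hQ h) B)
    (isSol_map_mk Q I ∅ g hg)
  exact ⟨g', h1, (isSol_empty_iff g').2 h2⟩

theorem formallySmooth_sorth' (hQ : IsNondeg (Pi.basisFun R (Fin n)) (LinearEquiv.refl R R) Q)
    (h : Odd n ∨ IsUnit (2 : R)) : Algebra.FormallySmooth R (Coord Q (detEq n)) := by
  refine formallySmooth_coord Q (detEq n) fun B _ _ I hI g hg => ?_
  have hdet : g.det - 1 ∈ I := by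
    refine Ideal.Quotient.eq.1 ?_
    rw [RingHom.map_det, RingHom.mapMatrix_apply, map_one]
    exact ((isSol_detEq_iff Q _).1 hg).2
  rcases Nat.even_or_odd n with he | ho
  · have h2 : IsUnit (2 : R) := h.resolve_left (Nat.not_odd_iff_even.2 he)
    obtain ⟨g', h1, hco⟩ := exists_lift_regular hI _ g
      (isUnit_det_polar_map (isUnit_det_polar hQ (Or.inl he)) B) (isSol_map_mk Q I _ g hg)
    refine ⟨g', h1, (isSol_detEq_iff Q g').2 ⟨hco, ?_⟩⟩
    have hmod : g'.det - 1 ∈ I := by
      refine Ideal.Quotient.eq.1 ?_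
      rw [RingHom.map_det, RingHom.mapMatrix_apply, map_one]
      rw [show g'.map (Ideal.Quotient.mk I) = g.map (Ideal.Quotient.mk I) from
        Matrix.ext fun i j => Ideal.Quotient.eq.2 (h1 i j)]
      exact ((isSol_detEq_iff Q _).1 hg).2
    have hu : IsUnit (g'.det + 1) := isUnit_of_sub_mem hI
      (show g'.det + 1 - 2 ∈ I by rwa [show g'.det + 1 - 2 = g'.det - 1 by ring])
      (by simpa only [map_ofNat] using h2.map (algebraMap R B))
    have hz : (g'.det - 1) * (g'.det + 1) = 0 := by linear_combination det_sq_eq_one hQ g' hco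
    exact sub_eq_zero.1 (hu.mul_left_eq_zero.1 hz)
  · obtain ⟨g', h1, hco, hd⟩ := exists_lift_odd hI ho _ g (isUnit_hd_map (halfDisc_eq Q ▸ hQ.2 ho) B)
      (isSol_map_mk Q I _ g hg) hdet
    exact ⟨g', h1, (isSol_detEq_iff Q g').2 ⟨hco, hd⟩⟩

/-- A tangent vector along the radical does not lift in residue characteristic two. -/
theorem not_formallySmooth_orth (hn : Odd n) (hQ : IsNondeg (Pi.basisFun R (Fin n)) (LinearEquiv.refl R R) Q)
    (h2 : ¬ IsUnit (2 : R)) : ¬ Algebra.FormallySmooth R (Coord Q ∅) := by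
  intro hFS
  classical
  obtain ⟨m, hm, h2m⟩ := exists_max_ideal_of_mem_nonunits (show (2 : R) ∈ nonunits R from h2)
  letI := Ideal.Quotient.field m
  set W₀ := (wMat Q).map (algebraMap R (R ⧸ m))
  have hk2 : (2 : R ⧸ m) = 0 := by
    rw [← map_ofNat (Ideal.Quotient.mk m) 2]
    exact Ideal.Quotient.eq_zero_iff_mem.2 h2m
  obtain ⟨i, e, he, hei, -, hq⟩ := exists_radical hn hk2 W₀ (isUnit_hd_map (halfDisc_eq Q ▸ hQ.2 hn) (R ⧸ m)).ne_zero
  let p : Polynomial (R ⧸ m) := Polynomial.X ^ 3
  set B := AdjoinRoot p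
  let ι := algebraMap (R ⧸ m) B
  set ε : B := AdjoinRoot.root p
  have hε : ε ^ 3 = 0 := by
    have := AdjoinRoot.eval₂_root p
    simpa [p] using this
  have hε2 : ∀ c : R ⧸ m, ι c * ε ^ 2 = 0 → c = 0 := fun c hc => by
    have h1 : AdjoinRoot.mk p (Polynomial.C c * Polynomial.X ^ 2) = 0 := by
      rw [map_mul, map_pow, AdjoinRoot.mk_C, AdjoinRoot.mk_X]; exact hc
    rw [AdjoinRoot.mk_eq_zero, Polynomial.X_pow_dvd_iff] at h1
    simpa [Polynomial.coeff_C_mul, Polynomial.coeff_X_pow] using h1 2 (by norm_num)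
  have hB2 : (2 : B) = 0 := by rw [← map_ofNat ι 2, hk2, map_zero]
  set I : Ideal B := Ideal.span {ε ^ 2}
  have hI : I ^ 2 = ⊥ := by
    rw [Ideal.span_singleton_pow, Ideal.span_singleton_eq_bot, ← pow_mul]
    exact pow_eq_zero_of_le (by norm_num) hε
  set W := (wMat Q).map (algebraMap R B)
  have hW : W₀.map ι = W := by
    ext a b
    exact (IsScalarTower.algebraMap_apply R (R ⧸ m) B _).symm
  let h : Matrix (Fin n) (Fin n) B := Matrix.vecMulVec (fun a => ι (e a)) (Pi.single i 1)
  set g : Matrix (Fin n) (Fin n) B := 1 + ε • h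
  set e' : Fin n → B := fun a => ι (e a)
  have hPe : (W + Wᵀ).mulVec e' = 0 := by
    funext a
    have := congrArg (fun v => ι (v a)) he
    simpa [← hW, e', Matrix.mulVec, dotProduct, map_sum] using this
  have hPh : (W + Wᵀ) * h = 0 := by
    rw [Matrix.mul_vecMulVec, hPe, Matrix.zero_vecMulVec]
  have hsol : IsSol Q ∅ (g.map (Ideal.Quotient.mk I)) := by
    rw [isSol_empty_iff]
    have hexp : co (gᵀ * W * g) = co W + ε ^ 2 • co (hᵀ * W * h) := by
      have : gᵀ * W * g = W + ε • (W * h + hᵀ * W) + ε ^ 2 • (hᵀ * W * h) := by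
        simp only [g, Matrix.transpose_add, Matrix.transpose_one, Matrix.transpose_smul, add_mul, mul_add,
          Matrix.one_mul, Matrix.mul_one, Matrix.smul_mul, Matrix.mul_smul, smul_smul, sq, smul_add]
        abel
      have h3 : co (W * h + hᵀ * W) = 0 := by
        rw [co_add, ← co_transpose (hᵀ * W), Matrix.transpose_mul, Matrix.transpose_transpose, ← co_add,
          ← Matrix.add_mul, hPh, co_zero]
      rw [this, co_add, co_add, co_smul, co_smul, h3, smul_zero, add_zero]
    rw [← map_wMat Q (Ideal.Quotient.mkₐ R I)]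
    change co ((g.map (Ideal.Quotient.mk I))ᵀ * W.map (Ideal.Quotient.mk I) * g.map (Ideal.Quotient.mk I)) =
      co (W.map (Ideal.Quotient.mk I))
    rw [← Matrix.transpose_map, ← Matrix.map_mul, ← Matrix.map_mul, ← map_co, ← map_co, hexp]
    funext t
    simp only [Function.comp_apply, Pi.add_apply, Pi.smul_apply, smul_eq_mul, map_add, map_mul]
    rw [Ideal.Quotient.eq_zero_iff_mem.2 (Ideal.subset_span (Set.mem_singleton (ε ^ 2))), zero_mul, add_zero]
  obtain ⟨g', hgg, hg'⟩ := exists_lift_of_formallySmooth Q ∅ hI g hsol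
  rw [isSol_empty_iff] at hg'
  choose c hc using fun a b => Ideal.mem_span_singleton'.1 (hgg a b)
  -- evaluate at the radical vector
  set T := replMat i e'
  have hcol : ∀ M : Matrix (Fin n) (Fin n) B, (Tᵀ * M * T) i i = dotProduct e' (M.mulVec e') := fun M => by
    rw [Matrix.mul_assoc, Matrix.mul_apply]
    simp only [Matrix.transpose_apply, Matrix.mul_apply, T, replMat_col, Matrix.mulVec, dotProduct]
  have hval := congrFun (co_congr T hg') (Sym2.mk i i)
  simp only [co_mk, if_true, hcol] at hval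
  rw [← Matrix.mulVec_mulVec, ← Matrix.mulVec_mulVec, Matrix.dotProduct_mulVec, Matrix.vecMul_transpose] at hval
  have hge : g'.mulVec e' = (1 + ε) • e' + ε ^ 2 • (Matrix.of c).mulVec e' := by
    have hg'e : g' = g + ε ^ 2 • Matrix.of c := Matrix.ext fun a b => by
      rw [Matrix.add_apply, Matrix.smul_apply, Matrix.of_apply, smul_eq_mul, mul_comm, hc a b, add_sub_cancel]
    have hhe : h.mulVec e' = e' := by
      funext a
      simp [h, Matrix.vecMulVec, Matrix.mulVec, dotProduct, Pi.single_apply, e', hei]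
    rw [hg'e, Matrix.add_mulVec, Matrix.smul_mulVec, Matrix.add_mulVec, Matrix.one_mulVec, Matrix.smul_mulVec, hhe,
      add_smul, one_smul]
  set f := (Matrix.of c).mulVec e'
  have hcross : dotProduct e' (W.mulVec f) + dotProduct f (W.mulVec e') = 0 := by
    have : dotProduct e' (W.mulVec f) = dotProduct f (Wᵀ.mulVec e') := by
      rw [Matrix.dotProduct_mulVec, ← Matrix.mulVec_transpose, dotProduct_comm]
    rw [this, ← dotProduct_add, ← Matrix.add_mulVec, add_comm Wᵀ, hPe, dotProduct_zero]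
  set q := dotProduct e' (W.mulVec e')
  rw [hge, Matrix.mulVec_add, Matrix.mulVec_smul, Matrix.mulVec_smul, add_dotProduct, dotProduct_add,
    dotProduct_add, smul_dotProduct, smul_dotProduct, smul_dotProduct, smul_dotProduct, dotProduct_smul,
    dotProduct_smul, dotProduct_smul, dotProduct_smul] at hval
  simp only [smul_eq_mul] at hval
  have hq0 : q * ε ^ 2 = 0 := by
    have h4 : ε ^ 4 = 0 := pow_eq_zero_of_le (by norm_num) hε
    linear_combination hval - ((1 + ε) * ε ^ 2) * hcross - (dotProduct f (W.mulVec f)) * h4 - (ε * q) * hB2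
  have hqι : q = ι (((replMat i e)ᵀ * W₀ * replMat i e) i i) := by
    rw [Matrix.mul_assoc, Matrix.mul_apply]
    simp only [Matrix.transpose_apply, Matrix.mul_apply, replMat_col, map_sum, map_mul, q, ← hW,
      Matrix.mulVec, dotProduct, Matrix.map_apply, e']
  exact hq (hε2 _ (hqι ▸ hq0))

open CategoryTheory AlgebraicGeometry in
open scoped TensorProduct in
/-- The naive special orthogonal group scheme as the scheme of its matrix equations. -/
noncomputable def affRepSOrth' {G : Over (Spec (CommRingCat.of R))} [GrpObj G] (D : QuadGrp.SOrth'Rep Q G) :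
    AffRep G (Coord Q (detEq n)) :=
  affRepOf Q D _ (fun A _ _ g => by
      rw [isSol_detEq_iff]
      exact and_congr (mem_orth_iff Q A g) (det_eq_one_iff A g))
    (fun A _ _ g hg => by rw [((isSol_detEq_iff Q g).1 hg).2]; exact isUnit_one)

end Groth.Agent.OrthSmooth
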