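import Groth.Agent.QuadHalfDisc
import Mathlib.LinearAlgebra.Matrix.Adjugate
import Mathlib.LinearAlgebra.Matrix.NonsingularInverse
import Mathlib.LinearAlgebra.Matrix.ToLinearEquiv
import Mathlib.RingTheory.Ideal.Quotient.Basic
import Mathlib.Algebra.MvPolynomial.PDeriv

/-!
# Lifting isometries of nondegenerate quadratic forms along square zero thickenings: matrices
-/

set_option autoImplicit false

universe u v

namespace Groth.Agent.OrthSmooth

open QuadGrp Matrix Groth.Agent.QuadHalfDisc MvPolynomial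

variable {A : Type u} [CommRing A] {n : ℕ}

/-- The half-discriminant of a coefficient family. -/
noncomputable def hd (c : Sym2 (Fin n) → A) : A := eval₂Hom (Int.castRingHom A) c (halfDiscUniv n)

theorem co_add (V V' : Matrix (Fin n) (Fin n) A) : co (V + V') = co V + co V' := by
  funext s
  induction s using Sym2.ind with
  | _ i j =>
    simp only [co_mk, Pi.add_apply, Matrix.add_apply]
    split <;> ring

theorem co_smul (r : A) (V : Matrix (Fin n) (Fin n) A) : co (r • V) = r • co V := by
  funext s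
  induction s using Sym2.ind with
  | _ i j =>
    simp only [co_mk, Pi.smul_apply, Matrix.smul_apply, smul_eq_mul]
    split <;> ring

theorem co_sub (V V' : Matrix (Fin n) (Fin n) A) : co (V - V') = co V - co V' := by
  rw [eq_sub_iff_add_eq, ← co_add, sub_add_cancel]

theorem co_zero : co (0 : Matrix (Fin n) (Fin n) A) = 0 := by
  simpa using co_smul (0 : A) (0 : Matrix (Fin n) (Fin n) A)

theorem co_transpose (V : Matrix (Fin n) (Fin n) A) : co Vᵀ = co V := by
  funext s
  induction s using Sym2.ind with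
  | _ i j =>
    simp only [co_mk, Matrix.transpose_apply]
    split <;> ring

theorem co_congr {V V' : Matrix (Fin n) (Fin n) A} (T : Matrix (Fin n) (Fin n) A) (h : co V = co V') :
    co (Tᵀ * V * T) = co (Tᵀ * V' * T) := by
  set D := V - V' with hD
  have h0 : co D = 0 := by rw [co_sub, h, sub_self]
  let U : Matrix (Fin n) (Fin n) A := Matrix.of fun i j => if i < j then D i j else 0
  have hU : D = U - Uᵀ := by
    ext i j
    have hij := congrFun h0 (Sym2.mk i j)
    rw [co_mk, Pi.zero_apply] at hij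
    simp only [U, Matrix.sub_apply, Matrix.transpose_apply, Matrix.of_apply]
    rcases lt_trichotomy i j with hl | rfl | hl
    · rw [if_pos hl, if_neg hl.not_gt, sub_zero]
    · rw [if_pos rfl] at hij
      rw [if_neg (lt_irrefl i), sub_zero]
      exact hij
    · rw [if_neg hl.ne'] at hij
      rw [if_neg hl.not_gt, if_pos hl, zero_sub]
      linear_combination hij
  rw [← sub_eq_zero, ← co_sub, ← Matrix.sub_mul, ← Matrix.mul_sub, ← hD, hU, Matrix.mul_sub, Matrix.sub_mul,
    co_sub, ← co_transpose (Tᵀ * U * T), Matrix.transpose_mul, Matrix.transpose_mul, Matrix.transpose_transpose,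
    Matrix.mul_assoc, sub_self]

theorem polar_eq {V V' : Matrix (Fin n) (Fin n) A} (h : co V = co V') : V + Vᵀ = V' + V'ᵀ := by
  rw [← polarMat_co, ← polarMat_co, h]

theorem two_hd (hn : Odd n) (V : Matrix (Fin n) (Fin n) A) : 2 * hd (co V) = (V + Vᵀ).det := by
  rw [hd, ← eval_discUniv, ← two_mul_halfDiscUniv hn, map_mul, map_ofNat]

theorem hd_congr (hn : Odd n) (V T : Matrix (Fin n) (Fin n) A) :
    hd (co (Tᵀ * V * T)) = T.det ^ 2 * hd (co V) := by
  rw [co_congr T (co_up (co V)).symm]
  exact eval_halfDiscUniv_congr hn (co V) T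

theorem map_hd {B : Type v} [CommRing B] (f : A →+* B) (c : Sym2 (Fin n) → A) : f (hd c) = hd (f ∘ c) := by
  refine RingHom.congr_fun (?_ : f.comp (eval₂Hom (Int.castRingHom A) c) = _) (halfDiscUniv n)
  ext <;> simp

theorem map_hd_co {B : Type v} [CommRing B] (f : A →+* B) (V : Matrix (Fin n) (Fin n) A) :
    f (hd (co V)) = hd (co (V.map f)) := by rw [map_hd, map_co]

/-- The differential of a polynomial at `x`. -/
noncomputable def dif {σ : Type v} [Fintype σ] (p : MvPolynomial σ ℤ) (x a : σ → A) : A :=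
  ∑ s, eval₂Hom (Int.castRingHom A) x (pderiv s p) * a s

theorem eval_add_sq_zero {σ : Type v} [Fintype σ] (p : MvPolynomial σ ℤ) (x a : σ → A) (ha : ∀ s t, a s * a t = 0) :
    eval₂Hom (Int.castRingHom A) (x + a) p = eval₂Hom (Int.castRingHom A) x p + dif p x a := by
  classical
  induction p using MvPolynomial.induction_on with
  | C c => simp [dif]
  | add p q hp hq =>
    simp only [map_add, hp, hq, dif, add_mul, Finset.sum_add_distrib]
    ring
  | mul_X p j hp =>
    have h1 : dif (p * X j) x a = dif p x a * x j + eval₂Hom (Int.castRingHom A) x p * a j := by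
      simp only [dif, Derivation.leibniz, pderiv_X, smul_eq_mul, map_add, map_mul, eval₂Hom_X', Finset.sum_mul,
        add_mul, Finset.sum_add_distrib]
      rw [add_comm]
      congr 1
      · exact Finset.sum_congr rfl fun s _ => by ring
      · rw [Finset.sum_eq_single j (fun s _ hs => by simp [Pi.single_apply, hs.symm]) (by simp)]
        simp
    have h2 : dif p x a * a j = 0 := by
      rw [dif, Finset.sum_mul]
      exact Finset.sum_eq_zero fun s _ => by rw [mul_assoc, ha, mul_zero]
    rw [h1, map_mul, map_mul, hp, eval₂Hom_X', eval₂Hom_X', Pi.add_apply]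
    linear_combination h2

theorem dif_add {σ : Type v} [Fintype σ] (p : MvPolynomial σ ℤ) (x a b : σ → A) :
    dif p x (a + b) = dif p x a + dif p x b := by
  simp only [dif, Pi.add_apply, mul_add, Finset.sum_add_distrib]

theorem dif_smul {σ : Type v} [Fintype σ] (p : MvPolynomial σ ℤ) (x a : σ → A) (r : A) :
    dif p x (r • a) = r * dif p x a := by
  simp only [dif, Pi.smul_apply, smul_eq_mul, Finset.mul_sum]
  exact Finset.sum_congr rfl fun s _ => by ring

/-- The differential of the half-discriminant. -/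
noncomputable def hdL (x a : Sym2 (Fin n) → A) : A := dif (halfDiscUniv n) x a

theorem mul_eq_zero_of_mem {I : Ideal A} (hI : I ^ 2 = ⊥) {a b : A} (ha : a ∈ I) (hb : b ∈ I) : a * b = 0 := by
  rw [← Ideal.mem_bot, ← hI, pow_two]
  exact Ideal.mul_mem_mul ha hb

theorem co_mem {I : Ideal A} {V : Matrix (Fin n) (Fin n) A} (h : ∀ i j, V i j ∈ I) (s : Sym2 (Fin n)) : co V s ∈ I := by
  induction s using Sym2.ind with
  | _ i j =>
    rw [co_mk]
    split
    exacts [h _ _, I.add_mem (h _ _) (h _ _)]

theorem mul_mem_right' {I : Ideal A} (M : Matrix (Fin n) (Fin n) A) {V : Matrix (Fin n) (Fin n) A}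
    (h : ∀ i j, V i j ∈ I) (i j : Fin n) : (M * V) i j ∈ I := by
  rw [Matrix.mul_apply]
  exact I.sum_mem fun l _ => I.mul_mem_left _ (h _ _)

theorem mul_mem_left' {I : Ideal A} (M : Matrix (Fin n) (Fin n) A) {V : Matrix (Fin n) (Fin n) A}
    (h : ∀ i j, V i j ∈ I) (i j : Fin n) : (V * M) i j ∈ I := by
  rw [Matrix.mul_apply]
  exact I.sum_mem fun l _ => I.mul_mem_right _ (h _ _)

theorem smul_mem' {I : Ideal A} (r : A) {V : Matrix (Fin n) (Fin n) A}
    (h : ∀ i j, V i j ∈ I) (i j : Fin n) : (r • V) i j ∈ I :=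
  I.mul_mem_left _ (h i j)

theorem hd_add {I : Ideal A} (hI : I ^ 2 = ⊥) (x : Sym2 (Fin n) → A) {a : Sym2 (Fin n) → A} (ha : ∀ s, a s ∈ I) :
    hd (x + a) = hd x + hdL x a :=
  eval_add_sq_zero _ x a fun s t => mul_eq_zero_of_mem hI (ha s) (ha t)

theorem det_one_add {I : Ideal A} (hI : I ^ 2 = ⊥) {h : Matrix (Fin n) (Fin n) A} (hh : ∀ i j, h i j ∈ I) :
    (1 + h).det = 1 + h.trace := by
  classical
  have hprod : ∀ s : Finset (Fin n), ∏ i ∈ s, (1 + h i i) = 1 + ∑ i ∈ s, h i i := by
    intro s
    induction s using Finset.induction_on with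
    | empty => simp
    | insert a s ha ih =>
      rw [Finset.prod_insert ha, Finset.sum_insert ha, ih]
      linear_combination mul_eq_zero_of_mem hI (hh a a) (I.sum_mem fun i (_ : i ∈ s) => hh i i)
  rw [Matrix.det_apply', Finset.sum_eq_single (1 : Equiv.Perm (Fin n))]
  · simp only [Equiv.Perm.sign_one, Units.val_one, Int.cast_one, one_mul, Equiv.Perm.one_apply, Matrix.add_apply,
      Matrix.one_apply_eq]
    exact hprod _
  · intro σ _ hσ
    obtain ⟨i, hi⟩ : ∃ i, σ i ≠ i := not_forall.1 fun hall => hσ (Equiv.ext hall)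
    have hne : σ (σ i) ≠ σ i := fun e => hi (σ.injective e)
    rw [← Finset.mul_prod_erase Finset.univ _ (Finset.mem_univ i),
      ← Finset.mul_prod_erase (Finset.univ.erase i) _ (Finset.mem_erase.2 ⟨hi, Finset.mem_univ (σ i)⟩)]
    simp only [Matrix.add_apply, Matrix.one_apply_ne hi, Matrix.one_apply_ne hne, zero_add]
    rw [← mul_assoc (h _ _), mul_eq_zero_of_mem hI (hh _ _) (hh _ _), zero_mul, mul_zero]
  · simp

/-- A representative of a coefficient family whose row `i` is zero off the diagonal. -/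
def rowRep (i : Fin n) (D : Matrix (Fin n) (Fin n) A) : Matrix (Fin n) (Fin n) A :=
  Matrix.of fun j l => if j = i then (if l = i then D i i else 0) else if l = i then D j i + D i j else D j l

theorem co_rowRep (i : Fin n) (D : Matrix (Fin n) (Fin n) A) : co (rowRep i D) = co D := by
  funext s
  induction s using Sym2.ind with
  | _ j l =>
    simp only [co_mk, rowRep, Matrix.of_apply]
    by_cases hjl : j = l
    · subst hjl
      by_cases hj : j = i <;> simp [hj]
    · by_cases hj : j = i
      · subst hj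
        simp [hjl, Ne.symm hjl, add_comm]
      · by_cases hl : l = i
        · subst hl
          simp [hjl, add_comm]
        · simp [hjl, hj, hl]

theorem rowRep_mem {I : Ideal A} (i : Fin n) {D : Matrix (Fin n) (Fin n) A} (h : ∀ j l, D j l ∈ I) (j l : Fin n) :
    rowRep i D j l ∈ I := by
  simp only [rowRep, Matrix.of_apply]
  split_ifs
  exacts [h _ _, I.zero_mem, I.add_mem (h _ _) (h _ _), h _ _]

theorem adjugate_self_congr (i : Fin n) {P P' : Matrix (Fin n) (Fin n) A} (h : ∀ j, j ≠ i → P j = P' j) :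
    P.adjugate i i = P'.adjugate i i := by
  rw [Matrix.adjugate_apply, Matrix.adjugate_apply]
  congr 1
  ext j l
  by_cases hj : j = i
  · subst hj; simp
  · simp [Matrix.updateRow_ne hj, h j hj]

/-- The half-discriminant of a form split off along the basis vector `i`. -/
theorem hd_block (hn : Odd n) (i : Fin n) (V : Matrix (Fin n) (Fin n) A)
    (hrow : ∀ l, l ≠ i → V i l = 0) (hcol : ∀ l, l ≠ i → V l i = 0) :
    hd (co V) = V i i * (V + Vᵀ).adjugate i i := by
  classical
  let S := MvPolynomial (Fin n × Fin n) ℤ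
  let Y : Matrix (Fin n) (Fin n) S := Matrix.of fun a b =>
    if (a = i ∧ b ≠ i) ∨ (b = i ∧ a ≠ i) then 0 else X (a, b)
  have hY0 : ∀ l, l ≠ i → (Y + Yᵀ) i l = 0 := fun l hl => by simp [Y, hl, Matrix.transpose_apply]
  have key : hd (co Y) = Y i i * (Y + Yᵀ).adjugate i i := by
    refine mul_left_cancel₀ (two_ne_zero (α := S)) ?_
    rw [two_hd hn]
    have h1 : ((Y + Yᵀ) * (Y + Yᵀ).adjugate) i i = (Y + Yᵀ).det := by
      rw [Matrix.mul_adjugate]; simp
    rw [← h1, Matrix.mul_apply, Finset.sum_eq_single i (fun l _ hl => by rw [hY0 l hl, zero_mul]) (by simp),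
      Matrix.add_apply, Matrix.transpose_apply]
    ring
  let φ : S →+* A := eval₂Hom (Int.castRingHom A) fun p => V p.1 p.2
  have hφ : Y.map φ = V := by
    ext a b
    simp only [Matrix.map_apply, Y, Matrix.of_apply]
    split_ifs with h
    · rcases h with ⟨rfl, hb⟩ | ⟨rfl, ha⟩
      · rw [map_zero, hrow b hb]
      · rw [map_zero, hcol a ha]
    · exact eval₂Hom_X' _ _ _
  have := congrArg φ key
  rw [map_hd_co, hφ, map_mul] at this
  rw [this]
  congr 1
  · exact congrFun (congrFun hφ i) i
  · have h2 := RingHom.map_adjugate φ (Y + Yᵀ)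
    rw [RingHom.mapMatrix_apply, RingHom.mapMatrix_apply, Matrix.map_add _ (map_add φ), Matrix.transpose_map,
      hφ] at h2
    exact congrFun (congrFun h2 i) i

/-- The matrix replacing the `i`-th basis vector by `e`. -/
def replMat (i : Fin n) (e : Fin n → A) : Matrix (Fin n) (Fin n) A := (1 : Matrix (Fin n) (Fin n) A).updateCol i e

theorem det_replMat (i : Fin n) (e : Fin n → A) : (replMat i e).det = e i := by
  rw [replMat, ← Matrix.cramer_apply, Matrix.cramer_one]
  rfl

theorem replMat_col (i : Fin n) (e : Fin n → A) (j : Fin n) : replMat i e j i = e j := by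
  simp [replMat]

theorem replMat_col_ne (i : Fin n) (e : Fin n → A) (j l : Fin n) (h : l ≠ i) :
    replMat i e j l = (1 : Matrix (Fin n) (Fin n) A) j l := by
  simp [replMat, h]

theorem adjugate_replMat_row (i : Fin n) (e : Fin n → A) :
    (replMat i e).adjugate i i = 1 ∧ ∀ l, l ≠ i → (replMat i e).adjugate i l = 0 := by
  classical
  constructor
  · rw [Matrix.adjugate_apply]
    have : (replMat i e).updateRow i (Pi.single i 1) = replMat i (Function.update e i 1) := by
      ext a b
      by_cases ha : a = i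
      · subst ha
        by_cases hb : b = a
        · subst hb; simp [replMat]
        · simp [replMat, hb, Pi.single_apply, Ne.symm hb]
      · by_cases hb : b = i
        · subst hb; simp [replMat, ha]
        · simp [replMat, ha, hb]
    rw [this, det_replMat]
    simp
  · intro l hl
    have h := congrFun (congrFun (Matrix.adjugate_mul (replMat i e)) i) l
    rw [Matrix.mul_apply, Matrix.smul_apply, Matrix.one_apply_ne (Ne.symm hl), smul_zero] at h
    simpa [replMat_col_ne i e _ l hl, Matrix.one_apply] using h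

theorem adjugate_congr_repl (i : Fin n) (e : Fin n → A) (P : Matrix (Fin n) (Fin n) A) :
    ((replMat i e)ᵀ * P * replMat i e).adjugate i i = P.adjugate i i := by
  classical
  obtain ⟨h1, h0⟩ := adjugate_replMat_row i e
  rw [Matrix.adjugate_mul_distrib, Matrix.adjugate_mul_distrib, ← Matrix.adjugate_transpose, Matrix.mul_apply,
    Finset.sum_eq_single i (fun l _ hl => by rw [h0 l hl, zero_mul]) (by simp), h1, one_mul, Matrix.mul_apply,
    Finset.sum_eq_single i (fun l _ hl => by rw [Matrix.transpose_apply, h0 l hl, mul_zero]) (by simp),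
    Matrix.transpose_apply, h1, mul_one]

theorem polar_congr (V T : Matrix (Fin n) (Fin n) A) :
    Tᵀ * V * T + (Tᵀ * V * T)ᵀ = Tᵀ * (V + Vᵀ) * T := by
  rw [Matrix.transpose_mul, Matrix.transpose_mul, Matrix.transpose_transpose, Matrix.mul_add, Matrix.add_mul,
    Matrix.mul_assoc Tᵀ Vᵀ T]

/-- If the polar form kills the `i`-th new basis vector up to a multiple of it, the form splits. -/
theorem hd_split (hn : Odd n) (V : Matrix (Fin n) (Fin n) A) (i : Fin n) (e : Fin n → A)
    (he : ∀ l, l ≠ i → ((V + Vᵀ).mulVec e) l = 0) (hei : e i * ((V + Vᵀ).mulVec e) i = ((replMat i e)ᵀ * (V + Vᵀ) * replMat i e) i i) :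
    (∀ j, j ≠ i → ((replMat i e)ᵀ * (V + Vᵀ) * replMat i e) j i = 0) ∧
    (∀ j, j ≠ i → ((replMat i e)ᵀ * (V + Vᵀ) * replMat i e) i j = 0) ∧
    ∃ V' : Matrix (Fin n) (Fin n) A, co V' = co ((replMat i e)ᵀ * V * replMat i e) ∧
      (∀ l, l ≠ i → V' i l = 0) ∧ (∀ l, l ≠ i → V' l i = 0) ∧ V' i i = ((replMat i e)ᵀ * V * replMat i e) i i ∧
      V' + V'ᵀ = (replMat i e)ᵀ * (V + Vᵀ) * replMat i e := by
  classical
  set T := replMat i e
  have hc : ∀ j, j ≠ i → (Tᵀ * (V + Vᵀ) * T) j i = 0 := by
    intro j hj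
    rw [Matrix.mul_assoc, Matrix.mul_apply, Finset.sum_eq_single j]
    · have : ((V + Vᵀ) * T) j i = (V + Vᵀ).mulVec e j := by
        simp only [Matrix.mul_apply, Matrix.mulVec, dotProduct, T, replMat_col]
      rw [this, he j hj, mul_zero]
    · intro l _ hl
      rw [Matrix.transpose_apply, show T l j = (1 : Matrix (Fin n) (Fin n) A) l j from replMat_col_ne i e l j hj,
        Matrix.one_apply_ne hl, zero_mul]
    · simp
  have hsym : (Tᵀ * (V + Vᵀ) * T)ᵀ = Tᵀ * (V + Vᵀ) * T := by
    rw [← polar_congr, Matrix.transpose_add, Matrix.transpose_transpose, add_comm]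
  have hr : ∀ j, j ≠ i → (Tᵀ * (V + Vᵀ) * T) i j = 0 := fun j hj => by
    rw [← hsym, Matrix.transpose_apply, hc j hj]
  refine ⟨hc, hr, rowRep i (Tᵀ * V * T), co_rowRep _ _, fun l hl => by simp [rowRep, hl], fun l hl => ?_,
    by simp [rowRep], ?_⟩
  · simp only [rowRep, Matrix.of_apply, if_neg hl, if_true]
    have := hc l hl
    rw [← polar_congr, Matrix.add_apply, Matrix.transpose_apply] at this
    exact this
  · rw [← polar_congr]
    exact polar_eq (co_rowRep _ _)

/-- Over a field of characteristic two the radical vector is anisotropic. -/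
theorem exists_radical {k : Type u} [Field k] (hn : Odd n) (h2 : (2 : k) = 0) (V : Matrix (Fin n) (Fin n) k)
    (hV : hd (co V) ≠ 0) : ∃ (i : Fin n) (e : Fin n → k), (V + Vᵀ).mulVec e = 0 ∧ e i = 1 ∧
      (V + Vᵀ).adjugate i i ≠ 0 ∧ ((replMat i e)ᵀ * V * replMat i e) i i ≠ 0 := by
  classical
  obtain ⟨v, hv, hPv⟩ := Matrix.exists_mulVec_eq_zero_iff.2 (show (V + Vᵀ).det = 0 by rw [← two_hd hn, h2, zero_mul])
  obtain ⟨i, hi⟩ := Function.ne_iff.1 hv
  have hi' : v i ≠ 0 := hi
  set e : Fin n → k := (v i)⁻¹ • v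
  have he : (V + Vᵀ).mulVec e = 0 := by simp [e, Matrix.mulVec_smul, hPv]
  have hei : e i = 1 := by simp [e, hi']
  refine ⟨i, e, he, hei, ?_⟩
  set T := replMat i e
  have hii : (Tᵀ * (V + Vᵀ) * T) i i = 0 := by
    rw [Matrix.mul_assoc, Matrix.mul_apply]
    refine Finset.sum_eq_zero fun l _ => ?_
    have : ((V + Vᵀ) * T) l i = (V + Vᵀ).mulVec e l := by
      simp only [Matrix.mul_apply, Matrix.mulVec, dotProduct, T, replMat_col]
    rw [this, he, Pi.zero_apply, mul_zero]
  obtain ⟨-, -, V', hco, hr, hc, hv', hP⟩ := hd_split hn V i e (fun l _ => by rw [he]; rfl)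
    (by rw [hii, he, Pi.zero_apply, mul_zero])
  have h := hd_congr hn V T
  rw [show T.det = 1 from (det_replMat i e).trans hei, one_pow, one_mul, ← hco, hd_block hn i V' hr hc, hP,
    adjugate_congr_repl, hv'] at h
  exact mul_ne_zero_iff.1 (h ▸ hV) |>.symm

variable {I : Ideal A} (hI : I ^ 2 = ⊥)

include hI in
/-- The effect of a first order change of basis. -/
theorem co_one_add (V : Matrix (Fin n) (Fin n) A) {h : Matrix (Fin n) (Fin n) A} (hh : ∀ i j, h i j ∈ I) :
    co ((1 + h)ᵀ * V * (1 + h)) = co V + co ((V + Vᵀ) * h) := by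
  have hq : hᵀ * V * h = 0 := by
    ext a b
    rw [Matrix.mul_apply]
    exact Finset.sum_eq_zero fun l _ =>
      mul_eq_zero_of_mem hI (mul_mem_left' V (fun p q => hh q p) a l) (hh _ _)
  rw [Matrix.transpose_add, Matrix.transpose_one]
  have : (1 + hᵀ) * V * (1 + h) = V + V * h + hᵀ * V := by
    rw [add_mul, one_mul, mul_add, mul_one, add_mul, hq]
    abel
  rw [this, co_add, co_add, Matrix.add_mul, co_add, ← co_transpose (hᵀ * V), Matrix.transpose_mul,
    Matrix.transpose_transpose, add_assoc]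

include hI in
/-- The variation of the half-discriminant along a change of basis. -/
theorem hdL_polar_mul (hn : Odd n) (V : Matrix (Fin n) (Fin n) A) {h : Matrix (Fin n) (Fin n) A}
    (hh : ∀ i j, h i j ∈ I) : hdL (co V) (co ((V + Vᵀ) * h)) = 2 * h.trace * hd (co V) := by
  have h1 := hd_congr hn V (1 + h)
  rw [co_one_add hI V hh, hd_add hI _ (co_mem (mul_mem_right' _ hh)), det_one_add hI hh] at h1
  have ht : h.trace * h.trace = 0 := mul_eq_zero_of_mem hI (I.sum_mem fun i _ => hh i i) (I.sum_mem fun i _ => hh i i)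
  linear_combination h1 + hd (co V) * ht

include hI in
theorem exists_corr_odd_char_ne_two (hn : Odd n) (V d : Matrix (Fin n) (Fin n) A) (hd' : ∀ i j, d i j ∈ I)
    (heq : hd (co (V + d)) = hd (co V)) :
    ∃ h : Matrix (Fin n) (Fin n) A, (∀ i j, h i j ∈ I) ∧ h.trace = 0 ∧
      co ((V + Vᵀ) * h) = (2 * hd (co V)) ^ 2 • co d := by
  set q := hd (co V)
  set h₀ := (V + Vᵀ).adjugate * d
  have hh₀ := mul_mem_right' (I := I) (V + Vᵀ).adjugate hd'
  have hco : co ((V + Vᵀ) * h₀) = (2 * q) • co d := by
    rw [← Matrix.mul_assoc, Matrix.mul_adjugate, Matrix.smul_mul, Matrix.one_mul, co_smul, two_hd hn]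
  have hL : hdL (co V) (co d) = 0 := by
    rw [co_add, hd_add hI _ (co_mem hd')] at heq
    exact add_eq_left.1 heq
  have ht : 2 * h₀.trace * q = 0 := by
    rw [← hdL_polar_mul hI hn V hh₀, hco, hdL, dif_smul]
    exact (congrArg (2 * q * ·) hL).trans (mul_zero _)
  refine ⟨(2 * q) • h₀, smul_mem' _ hh₀, ?_, ?_⟩
  · rw [Matrix.trace_smul, smul_eq_mul]
    linear_combination ht
  · rw [Matrix.mul_smul, co_smul, hco, smul_smul, sq]

include hI in
theorem exists_corr_minor (hn : Odd n) (V d : Matrix (Fin n) (Fin n) A) (hd' : ∀ i j, d i j ∈ I)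
    (heq : hd (co (V + d)) = hd (co V)) (i : Fin n) :
    ∃ h : Matrix (Fin n) (Fin n) A, (∀ a b, h a b ∈ I) ∧ h.trace = 0 ∧
      co ((V + Vᵀ) * h) = ((V + Vᵀ).adjugate i i) ^ 5 • co d := by
  classical
  set P := V + Vᵀ with hPdef
  set r := P.adjugate i i with hr
  let e : Fin n → A := fun j => P.adjugate j i
  have hPe : ∀ l, P.mulVec e l = if l = i then P.det else 0 := fun l => by
    have := congrFun (congrFun (Matrix.mul_adjugate P) l) i
    simp only [Matrix.mulVec, dotProduct, e]
    rw [← Matrix.mul_apply, this, Matrix.smul_apply, Matrix.one_apply, smul_eq_mul, mul_ite, mul_one, mul_zero]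
  set T := replMat i e
  have hdetT : T.det = r := det_replMat i e
  set H := Tᵀ * P * T
  have hHii : H i i = r * P.det := by
    change (Tᵀ * P * T) i i = _
    rw [Matrix.mul_assoc, Matrix.mul_apply, Finset.sum_eq_single i]
    · have : (P * T) i i = P.mulVec e i := by
        simp only [Matrix.mul_apply, Matrix.mulVec, dotProduct, T, replMat_col]
      rw [this, hPe, if_pos rfl, Matrix.transpose_apply]
      exact congrArg (· * _) (replMat_col i e i)
    · intro l _ hl
      have : (P * T) l i = P.mulVec e l := by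
        simp only [Matrix.mul_apply, Matrix.mulVec, dotProduct, T, replMat_col]
      rw [this, hPe, if_neg hl, mul_zero]
    · simp
  obtain ⟨hHc, hHr, V', hcoV', hV'r, hV'c, -, hPV'⟩ := hd_split hn V i e
    (fun l hl => by rw [hPe, if_neg hl]) (by rw [hPe, if_pos rfl]; exact hHii.symm)
  replace hHc : ∀ j, j ≠ i → H j i = 0 := hHc
  replace hHr : ∀ j, j ≠ i → H i j = 0 := hHr
  have hadj : H.adjugate i i = r := adjugate_congr_repl i e P
  let E : Matrix (Fin n) (Fin n) A := Matrix.single i i 1
  have hE : ∀ a b, E a b = if a = i ∧ b = i then 1 else 0 := fun a b => by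
    simp only [E, Matrix.single_apply]
    simp [eq_comm]
  let H' := H.updateRow i (Pi.single i 1)
  have hdetH' : H'.det = r := by rw [← hadj, Matrix.adjugate_apply]
  set Z := H'.adjugate * (1 - E)
  have hHZ : H * Z = r • (1 - E) := by
    have hH' : H = (1 + (H i i - 1) • E) * H' := by
      ext a b
      rw [Matrix.mul_apply, Finset.sum_eq_single a]
      · by_cases ha : a = i
        · subst ha
          by_cases hb : b = a
          · subst hb; simp [H', hE]
          · simp [H', hE, Matrix.updateRow_self, hb, hHr b hb, Pi.single_eq_of_ne hb]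
        · simp [H', hE, ha, Matrix.updateRow_ne ha]
      · intro l _ hl
        simp only [Matrix.add_apply, Matrix.one_apply_ne (Ne.symm hl), Matrix.smul_apply, hE, zero_add]
        rw [if_neg (fun h => hl (h.2.trans h.1.symm)), smul_zero, zero_mul]
      · simp
    conv_lhs => rw [hH']
    rw [Matrix.mul_assoc, ← Matrix.mul_assoc H', Matrix.mul_adjugate, hdetH', Matrix.smul_mul, Matrix.one_mul,
      Matrix.mul_smul, Matrix.add_mul, Matrix.one_mul, Matrix.smul_mul, Matrix.mul_sub, Matrix.mul_one,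
      Matrix.single_mul_single_same, mul_one, sub_self, smul_zero, add_zero]
  set D := rowRep i (Tᵀ * d * T)
  have hDI : ∀ a b, D a b ∈ I := rowRep_mem i (mul_mem_left' T (mul_mem_right' Tᵀ hd'))
  set h₀ := Z * D
  have hh₀ := mul_mem_right' (I := I) Z hDI
  set t := h₀.trace
  have ht : t ∈ I := I.sum_mem fun a _ => hh₀ a a
  have hED : E * D = D i i • E := by
    ext a b
    rw [Matrix.mul_apply, Finset.sum_eq_single i]
    · by_cases ha : a = i <;> by_cases hb : b = i <;> simp [hE, D, rowRep, ha, hb]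
    · intro l _ hl; simp [hE, hl]
    · simp
  have hHE : H * E = H i i • E := by
    ext a b
    rw [Matrix.mul_apply, Finset.sum_eq_single i]
    · by_cases ha : a = i
      · subst ha; by_cases hb : b = a <;> simp [hE, hb]
      · simp [hE, ha]
        intro hb; subst hb
        exact hHc a ha
    · intro l _ hl; simp [hE, hl]
    · simp
  set h' := h₀ - t • E
  have hh' : ∀ a b, h' a b ∈ I := fun a b => I.sub_mem (hh₀ a b) (I.mul_mem_right _ ht)
  have htr : h'.trace = 0 := by
    simp [h', E, Matrix.trace_sub, Matrix.trace_smul, Matrix.trace_single_eq_same, t]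
  set s := -(r * D i i) - t * H i i
  have hy : co (H * h') = r • co (Tᵀ * d * T) + s • co E := by
    rw [Matrix.mul_sub, ← Matrix.mul_assoc, hHZ, Matrix.mul_smul, hHE, Matrix.smul_mul, Matrix.sub_mul,
      Matrix.one_mul, hED, co_sub, co_smul, co_sub, co_smul, co_smul, co_smul, co_rowRep]
    simp only [s]
    module
  have hsI : s ∈ I := I.sub_mem (I.neg_mem (I.mul_mem_left _ (hDI i i))) (I.mul_mem_right _ ht)
  -- the coefficient `s` is killed by the half-discriminant
  have hH : V' + V'ᵀ = H := hPV'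
  have hEI : ∀ a b, (s • E) a b ∈ I := fun a b => I.mul_mem_right _ hsI
  have hLE : hdL (co V') (co (s • E)) = s * r := by
    have h1 : hd (co (V' + s • E)) = hd (co V') + s * r := by
      rw [hd_block hn i V' hV'r hV'c, hd_block hn i (V' + s • E)
        (fun l hl => by simp [hV'r l hl, hE, hl]) (fun l hl => by simp [hV'c l hl, hE, hl]), hH, hadj]
      rw [adjugate_self_congr i (P' := V' + V'ᵀ), hH, hadj]
      · simp [hE]; ring
      · intro j hj
        funext l
        simp [hE, hj, Matrix.transpose_apply]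
    rw [co_add, hd_add hI _ (co_mem hEI)] at h1
    linear_combination h1
  have hLd : hdL (co V') (co (Tᵀ * d * T)) = 0 := by
    have h1 := hd_congr hn (V + d) T
    rw [Matrix.mul_add, Matrix.add_mul, co_add, ← hcoV', hd_add hI _
      (co_mem (mul_mem_left' T (mul_mem_right' Tᵀ hd'))), heq] at h1
    have h2 := hd_congr hn V T
    rw [← hcoV'] at h2
    linear_combination h1 - h2
  have hsr : s * r = 0 := by
    have h1 := hdL_polar_mul hI hn V' hh'
    rw [hH, htr, mul_zero, zero_mul, hy, ← co_smul s, hdL, dif_add, dif_smul] at h1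
    change r * hdL (co V') (co (Tᵀ * d * T)) + hdL (co V') (co (s • E)) = 0 at h1
    rw [hLd, hLE, mul_zero, zero_add] at h1
    exact h1
  -- back to the old coordinates
  refine ⟨(r * r) • (T * (r • h') * T.adjugate), smul_mem' _ (mul_mem_left' _ (mul_mem_right' T (smul_mem' r hh'))),
    ?_, ?_⟩
  · rw [Matrix.trace_smul, Matrix.trace_mul_cycle, Matrix.adjugate_mul, Matrix.smul_mul, Matrix.one_mul,
      Matrix.trace_smul, Matrix.trace_smul, htr, smul_zero, smul_zero, smul_zero]
  · set X := P * (T * (r • h') * T.adjugate)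
    have h1 : co (Tᵀ * X * T) = (r * r * r) • co (Tᵀ * d * T) := by
      have : Tᵀ * X * T = (r * r) • (H * h') := by
        simp only [X, H, Matrix.mul_assoc, Matrix.adjugate_mul, hdetT, Matrix.mul_smul, Matrix.smul_mul,
          Matrix.mul_one, smul_smul]
      rw [this, co_smul, hy, smul_add, smul_smul, smul_smul, show r * r * s = 0 by linear_combination r * hsr,
        zero_smul, add_zero]
    rw [← co_smul] at h1
    have h2 := co_congr T.adjugate h1
    have hTS : T * T.adjugate = r • (1 : Matrix (Fin n) (Fin n) A) := by rw [Matrix.mul_adjugate, hdetT]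
    have hST : T.adjugateᵀ * Tᵀ = r • (1 : Matrix (Fin n) (Fin n) A) := by
      rw [← Matrix.transpose_mul, hTS, Matrix.transpose_smul, Matrix.transpose_one]
    have hconj : ∀ M : Matrix (Fin n) (Fin n) A,
        T.adjugateᵀ * (Tᵀ * M * T) * T.adjugate = (r * r) • M := fun M => by
      simp only [Matrix.mul_assoc, hTS, Matrix.mul_smul, Matrix.mul_one]
      rw [← Matrix.mul_assoc, hST, Matrix.smul_mul, Matrix.one_mul, smul_smul]
    rw [hconj, Matrix.mul_smul, Matrix.smul_mul, hconj, co_smul, co_smul, co_smul] at h2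
    rw [Matrix.mul_smul, co_smul, h2, smul_smul]
    congr 1
    ring

include hI in
/-- The infinitesimal correction in odd rank. -/
theorem exists_corr_odd (hn : Odd n) (V d : Matrix (Fin n) (Fin n) A) (hV : IsUnit (hd (co V)))
    (hd' : ∀ i j, d i j ∈ I) (heq : hd (co (V + d)) = hd (co V)) :
    ∃ h : Matrix (Fin n) (Fin n) A, (∀ i j, h i j ∈ I) ∧ h.trace = 0 ∧ co ((V + Vᵀ) * h) = co d := by
  classical
  let J : Ideal A :=
    { carrier := {r | ∃ h : Matrix (Fin n) (Fin n) A, (∀ i j, h i j ∈ I) ∧ h.trace = 0 ∧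
        co ((V + Vᵀ) * h) = r • co d}
      zero_mem' := ⟨0, fun _ _ => I.zero_mem, Matrix.trace_zero _ _, by rw [Matrix.mul_zero, zero_smul, co_zero]⟩
      add_mem' := by
        rintro r r' ⟨h, a, b, c⟩ ⟨h', a', b', c'⟩
        exact ⟨h + h', fun i j => I.add_mem (a i j) (a' i j), by rw [Matrix.trace_add, b, b', add_zero],
          by rw [Matrix.mul_add, co_add, c, c', add_smul]⟩
      smul_mem' := by
        rintro x r ⟨h, a, b, c⟩
        exact ⟨x • h, smul_mem' x a, by rw [Matrix.trace_smul, b, smul_zero],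
          by rw [Matrix.mul_smul, co_smul, c, smul_smul, smul_eq_mul]⟩ }
  suffices hJ : J = ⊤ by
    obtain ⟨h, a, b, c⟩ := (J.eq_top_iff_one.1 hJ : (1 : A) ∈ J)
    exact ⟨h, a, b, c.trans (one_smul _ _)⟩
  by_contra hJ
  obtain ⟨m, hm, hle⟩ := J.exists_le_maximal hJ
  by_cases h2 : (2 : A) ∈ m
  · letI := Ideal.Quotient.field m
    set f := Ideal.Quotient.mk m
    have hq : hd (co (V.map f)) ≠ 0 := by
      rw [← map_hd_co]
      exact (hV.map f).ne_zero
    obtain ⟨i, e, -, -, hadj, -⟩ := exists_radical hn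
      (show (2 : A ⧸ m) = 0 by rw [← map_ofNat f 2]; exact Ideal.Quotient.eq_zero_iff_mem.2 h2) (V.map f) hq
    refine hadj ?_
    have hr := hle (exists_corr_minor hI hn V d hd' heq i : ((V + Vᵀ).adjugate i i) ^ 5 ∈ J)
    have h1 := RingHom.map_adjugate f (V + Vᵀ)
    rw [RingHom.mapMatrix_apply, RingHom.mapMatrix_apply, Matrix.map_add _ (map_add f), Matrix.transpose_map] at h1
    rw [← h1]
    exact Ideal.Quotient.eq_zero_iff_mem.2 (hm.isPrime.mem_of_pow_mem 5 hr)
  · have hr := hle (exists_corr_odd_char_ne_two hI hn V d hd' heq : (2 * hd (co V)) ^ 2 ∈ J)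
    exact (hm.isPrime.mem_or_mem (hm.isPrime.mem_of_pow_mem 2 hr)).elim h2
      fun h => hm.ne_top (Ideal.eq_top_of_isUnit_mem _ h hV)

include hI in
theorem isUnit_of_sub_mem {a b : A} (h : a - b ∈ I) (hb : IsUnit b) : IsUnit a := by
  have hn : IsNilpotent (a - b) := ⟨2, by rw [pow_two]; exact mul_eq_zero_of_mem hI h h⟩
  simpa using hn.isUnit_add_left_of_commute hb (Commute.all _ _)

theorem co_mk_map {B : Type v} [CommRing B] (f : A →+* B) {V V' : Matrix (Fin n) (Fin n) A}
    (h : f ∘ co V = f ∘ co V') : (V + Vᵀ).det - (V' + V'ᵀ).det ∈ RingHom.ker f := by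
  rw [RingHom.mem_ker, map_sub, RingHom.map_det, RingHom.map_det, RingHom.mapMatrix_apply, RingHom.mapMatrix_apply,
    Matrix.map_add _ (map_add f), Matrix.map_add _ (map_add f), Matrix.transpose_map, Matrix.transpose_map,
    polar_eq (V := V.map f) (V' := V'.map f) (by rw [← map_co, ← map_co, h]), sub_self]

include hI in
/-- Lifting isometries when the polar form is perfect. -/
theorem exists_lift_regular (W g : Matrix (Fin n) (Fin n) A) (hW : IsUnit (W + Wᵀ).det)
    (hg : ∀ s, co (gᵀ * W * g) s - co W s ∈ I) :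
    ∃ g' : Matrix (Fin n) (Fin n) A, (∀ i j, g' i j - g i j ∈ I) ∧ co (g'ᵀ * W * g') = co W := by
  set V := gᵀ * W * g with hVdef
  have hP : IsUnit (V + Vᵀ).det := isUnit_of_sub_mem hI (by
    have := co_mk_map (Ideal.Quotient.mk I) (V := V) (V' := W) (funext fun s => Ideal.Quotient.eq.2 (hg s))
    rwa [Ideal.mk_ker] at this) hW
  set d := up (co W - co V)
  have hd' : ∀ i j, d i j ∈ I := fun i j => by
    simp only [d, up, Matrix.of_apply]
    split
    · simpa using I.neg_mem (hg (Sym2.mk i j))
    · exact I.zero_mem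
  set h := (V + Vᵀ)⁻¹ * d
  have hh : ∀ i j, h i j ∈ I := mul_mem_right' _ hd'
  refine ⟨g * (1 + h), fun i j => ?_, ?_⟩
  · rw [Matrix.mul_add, Matrix.mul_one, Matrix.add_apply, add_sub_cancel_left]
    exact mul_mem_right' g hh i j
  · rw [show (g * (1 + h))ᵀ * W * (g * (1 + h)) = (1 + h)ᵀ * V * (1 + h) by
      rw [Matrix.transpose_mul, hVdef]; simp only [Matrix.mul_assoc], co_one_add hI V hh, ← Matrix.mul_assoc,
      Matrix.mul_nonsing_inv _ hP, Matrix.one_mul, co_up, add_sub_cancel]

include hI in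
/-- Lifting isometries of determinant one in odd rank. -/
theorem exists_lift_odd (hn : Odd n) (W g : Matrix (Fin n) (Fin n) A) (hW : IsUnit (hd (co W)))
    (hg : ∀ s, co (gᵀ * W * g) s - co W s ∈ I) (hdet : g.det - 1 ∈ I) :
    ∃ g' : Matrix (Fin n) (Fin n) A, (∀ i j, g' i j - g i j ∈ I) ∧ co (g'ᵀ * W * g') = co W ∧ g'.det = 1 := by
  classical
  obtain ⟨i₀⟩ : Nonempty (Fin n) := ⟨⟨0, hn.pos⟩⟩
  set u := 2 - g.det
  have hu : u * g.det = 1 := by linear_combination -mul_eq_zero_of_mem hI hdet hdet
  set D := Matrix.diagonal (Function.update (fun _ => (1 : A)) i₀ u)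
  set g₁ := g * D with hg₁
  have hdet₁ : g₁.det = 1 := by
    rw [Matrix.det_mul, Matrix.det_diagonal, Finset.prod_update_of_mem (Finset.mem_univ i₀)]
    simpa [mul_comm] using hu
  have hgg : ∀ i j, g₁ i j - g i j ∈ I := fun i j => by
    rw [hg₁, Matrix.mul_diagonal, ← mul_sub_one]
    refine I.mul_mem_left _ ?_
    by_cases hj : j = i₀
    · subst hj
      rw [Function.update_self, show u - 1 = -(g.det - 1) by ring]
      exact I.neg_mem hdet
    · rw [Function.update_of_ne hj, sub_self]
      exact I.zero_mem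
  set V := g₁ᵀ * W * g₁ with hVdef
  have hV : ∀ s, co V s - co W s ∈ I := fun s => by
    have hmap : g₁.map (Ideal.Quotient.mk I) = g.map (Ideal.Quotient.mk I) := by
      ext i j; exact Ideal.Quotient.eq.2 (hgg i j)
    have h1 : Ideal.Quotient.mk I (co V s) = Ideal.Quotient.mk I (co (gᵀ * W * g) s) := by
      refine congrFun (?_ : (Ideal.Quotient.mk I) ∘ co V = (Ideal.Quotient.mk I) ∘ co (gᵀ * W * g)) s
      rw [map_co, map_co]
      simp only [V, Matrix.map_mul, Matrix.transpose_map, hmap]
    have := I.add_mem (Ideal.Quotient.eq.1 h1) (hg s)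
    rwa [sub_add_sub_cancel] at this
  set d := up (co W - co V)
  have hd' : ∀ i j, d i j ∈ I := fun i j => by
    simp only [d, up, Matrix.of_apply]
    split
    · simpa using I.neg_mem (hV (Sym2.mk i j))
    · exact I.zero_mem
  have hVq : hd (co V) = hd (co W) := by rw [hVdef, hd_congr hn, hdet₁, one_pow, one_mul]
  obtain ⟨h, hh, htr, hco⟩ := exists_corr_odd hI hn V d (hVq ▸ hW) hd'
    (by rw [co_add, co_up, add_sub_cancel, hVq])
  refine ⟨g₁ * (1 + h), fun i j => ?_, ?_, ?_⟩
  · rw [Matrix.mul_add, Matrix.mul_one, Matrix.add_apply, add_sub_right_comm]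
    exact I.add_mem (hgg i j) (mul_mem_right' g₁ hh i j)
  · rw [show (g₁ * (1 + h))ᵀ * W * (g₁ * (1 + h)) = (1 + h)ᵀ * V * (1 + h) by
      rw [Matrix.transpose_mul, hVdef]; simp only [Matrix.mul_assoc], co_one_add hI V hh, hco, co_up,
      add_sub_cancel]
  · rw [Matrix.det_mul, hdet₁, det_one_add hI hh, htr, add_zero, one_mul]

end Groth.Agent.OrthSmooth
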