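import Groth.Agent.OrthSmooth.RelDim
import Groth.Agent.OrthSmooth.Connected

/-!
# The special orthogonal group scheme in odd rank
-/

set_option autoImplicit false

universe u

namespace Groth.Agent.OrthSmooth

open QuadGrp Matrix Groth.Agent.QuadHalfDisc MvPolynomial
open CategoryTheory AlgebraicGeometry
open scoped TensorProduct

variable {R : Type u} [CommRing R] {n : ℕ} {Q : QuadraticForm R (Fin n → R)}

theorem mem_sorth_iff (hn : Odd n) (A : Type u) [CommRing A] [Algebra R A]
    (g : (A ⊗[R] (Fin n → R)) ≃ₗ[A] (A ⊗[R] (Fin n → R))) :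
    g ∈ QuadGrp.sorth Q A ↔ IsSol Q (detEq n) (LinearMap.toMatrix (bA A) (bA A) g.toLinearMap) := by
  classical
  rw [isSol_detEq_iff]
  rcases subsingleton_or_nontrivial A with hA | hA
  · haveI : Subsingleton (A ⊗[R] (Fin n → R)) := Module.subsingleton A _
    have : g = 1 := LinearEquiv.ext fun v => Subsingleton.elim _ _
    refine iff_of_true (this ▸ one_mem _) ⟨funext fun s => Subsingleton.elim _ _, Subsingleton.elim _ _⟩
  · have hr : Module.finrank A (A ⊗[R] (Fin n → R)) = n := by
      rw [Module.finrank_eq_card_basis (bA A), Fintype.card_fin]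
    have h1 : QuadGrp.sorth Q A = QuadGrp.SO' (QuadGrp.baseChangeForm A Q) := by
      rw [QuadGrp.sorth, QuadGrp.SO, hr, if_neg (Nat.not_even_iff_odd.2 hn)]
    rw [h1, QuadGrp.SO', Subgroup.mem_inf]
    refine and_congr ((Iff.trans ?_ (mem_orth_iff Q A g))) (det_eq_one_iff A g)
    rw [QuadGrp.orth, QuadGrp.mem_O, QuadGrp.mem_O]
    exact forall_congr' fun v => (TensorProduct.AlgebraTensorModule.rid R A A).injective.eq_iff

/-- The special orthogonal group scheme as the scheme of its equations. -/
noncomputable def affRepSOrth (hn : Odd n) {G : Over (Spec (CommRingCat.of R))} [GrpObj G]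
    (D : QuadGrp.SOrthRep Q G) : AffRep G (Coord Q (detEq n)) :=
  affRepOf Q D _ (fun A _ _ g => mem_sorth_iff hn A g)
    (fun A _ _ g hg => by rw [((isSol_detEq_iff Q g).1 hg).2]; exact isUnit_one)

theorem connectedSpace_fiber (hn : Odd n) (hQ : IsUnit (hd (co (wMat Q)))) {G : Over (Spec (CommRingCat.of R))}
    (e : G.left ≅ Spec (CommRingCat.of (Coord Q (detEq n))))
    (he : G.hom = e.hom ≫ Spec.map (CommRingCat.ofHom (algebraMap R (Coord Q (detEq n)))))
    (s : ↥(Spec (CommRingCat.of R))) : ConnectedSpace ↥(G.hom.fiber s) := by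
  have hc := isConnected_fibre (Q := Q) hn hQ s
  have hset : G.hom ⁻¹' {s} =
      e.inv '' (PrimeSpectrum.comap (algebraMap R (Coord Q (detEq n))) ⁻¹' {s}) := by
    ext x
    constructor
    · intro hx
      refine ⟨e.hom x, ?_, ?_⟩
      · have hx' : G.hom x = s := hx
        refine Set.mem_singleton_iff.2 (?_ : _ = s)
        rw [← hx', he]
        rfl
      · rw [← Scheme.Hom.comp_apply, e.hom_inv_id]
        rfl
    · rintro ⟨y, hy, rfl⟩
      refine Set.mem_singleton_iff.2 (?_ : G.hom (e.inv y) = s)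
      rw [he, Scheme.Hom.comp_apply, ← Scheme.Hom.comp_apply e.inv e.hom, e.inv_hom_id]
      exact hy
  have h2 : _root_.IsConnected (G.hom ⁻¹' {s}) := hset ▸ hc.image _ e.inv.continuous.continuousOn
  haveI := isConnected_iff_connectedSpace.1 h2
  exact (G.hom.fiberHomeo s).symm.surjective.connectedSpace (G.hom.fiberHomeo s).symm.continuous

end Groth.Agent.OrthSmooth
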