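import Groth.Agent.OrthSmooth.Rep
import Groth.Agent.OrthSmooth.Mat
import Mathlib.LinearAlgebra.BilinearForm.TensorProduct
import Mathlib.LinearAlgebra.Matrix.ToLinearEquiv
import Mathlib.RingTheory.FinitePresentation
import Mathlib.RingTheory.Smooth.Basic
import Mathlib.RingTheory.AdjoinRoot

/-!
# The orthogonal group scheme of a quadratic form on `Rⁿ` as the scheme of matrix solutions
-/

set_option autoImplicit false

universe u

namespace Groth.Agent.OrthSmooth

open QuadGrp Matrix Groth.Agent.QuadHalfDisc MvPolynomial TensorProduct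

variable {R : Type u} [CommRing R] {n : ℕ}

/-- The upper triangular matrix of a quadratic form. -/
noncomputable def wMat (Q : QuadraticForm R (Fin n → R)) : Matrix (Fin n) (Fin n) R :=
  up (coeffs (Pi.basisFun R (Fin n)) (LinearEquiv.refl R R) Q)

variable (Q : QuadraticForm R (Fin n → R))

theorem toMatrix₂_toBilin {S : Type u} [CommRing S] {M : Type u} [AddCommGroup M] [Module S M]
    (b : Module.Basis (Fin n) S M) (Q : QuadraticForm S M) :
    LinearMap.toMatrix₂ b b (Q.toBilin b) = up (coeffs b (LinearEquiv.refl S S) Q) := by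
  ext i j
  rw [LinearMap.toMatrix₂_apply, QuadraticMap.toBilin_apply]
  simp only [up, Matrix.of_apply, coeffs_mk, LinearEquiv.refl_apply]
  rcases lt_trichotomy i j with h | h | h
  · simp [h, h.le, h.ne]
  · subst h; simp
  · simp [h.ne', h.not_gt, not_le.mpr h]

theorem eq_of_coeffs_eq {S : Type u} [CommRing S] {M : Type u} [AddCommGroup M] [Module S M]
    (b : Module.Basis (Fin n) S M) {Q Q' : QuadraticForm S M}
    (h : coeffs b (LinearEquiv.refl S S) Q = coeffs b (LinearEquiv.refl S S) Q') : Q = Q' := by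
  have : Q.toBilin b = Q'.toBilin b := (LinearMap.toMatrix₂ b b).injective (by
    rw [toMatrix₂_toBilin, toMatrix₂_toBilin, h])
  rw [← Q.toQuadraticMap_toBilin b, this, Q'.toQuadraticMap_toBilin b]

section Coords

variable (A : Type u) [CommRing A] [Algebra R A]

/-- The standard basis after base change. -/
noncomputable def bA : Module.Basis (Fin n) A (A ⊗[R] (Fin n → R)) :=
  Algebra.TensorProduct.basis A (Pi.basisFun R (Fin n))

theorem bA_apply (i : Fin n) : bA A i = (1 : A) ⊗ₜ[R] (Pi.single i 1 : Fin n → R) := by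
  simp [bA, Algebra.TensorProduct.basis_apply, Pi.basisFun_apply]

/-- A bilinear form giving the base changed quadratic form. -/
noncomputable def bilA : LinearMap.BilinForm A (A ⊗[R] (Fin n → R)) :=
  LinearMap.BilinForm.baseChange A (Q.toBilin (Pi.basisFun R (Fin n)))

theorem toMatrix₂_bilA :
    LinearMap.toMatrix₂ (bA A) (bA A) (bilA Q A) = (wMat Q).map (algebraMap R A) := by
  ext i j
  rw [LinearMap.toMatrix₂_apply, Matrix.map_apply, wMat, ← toMatrix₂_toBilin, LinearMap.toMatrix₂_apply, bA_apply,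
    bA_apply, bilA, LinearMap.BilinForm.baseChange_tmul, mul_one, Algebra.algebraMap_eq_smul_one,
    Pi.basisFun_apply, Pi.basisFun_apply]

theorem baseChangeForm_eq :
    baseChangeForm A Q = LinearMap.BilinMap.toQuadraticMap (bilA Q A) := by
  refine _root_.baseChange_ext fun m => ?_
  rw [LinearMap.BilinMap.toQuadraticMap_apply, bilA, LinearMap.BilinForm.baseChange_tmul, mul_one,
    ← LinearMap.BilinMap.toQuadraticMap_apply, Q.toQuadraticMap_toBilin]
  change AlgebraTensorModule.rid R A A (baseChange A Q ((1 : A) ⊗ₜ[R] m)) = _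
  rw [baseChange_tmul, AlgebraTensorModule.rid_tmul, mul_one]

theorem coeffs_baseChangeForm :
    coeffs (bA A) (LinearEquiv.refl A A) (baseChangeForm A Q) = co ((wMat Q).map (algebraMap R A)) := by
  rw [baseChangeForm_eq, coeffs_toQuadraticMap, toMatrix₂_bilA]

theorem mem_orth_iff (g : (A ⊗[R] (Fin n → R)) ≃ₗ[A] (A ⊗[R] (Fin n → R))) :
    g ∈ orth Q A ↔
      co ((LinearMap.toMatrix (bA A) (bA A) g.toLinearMap)ᵀ * (wMat Q).map (algebraMap R A) *
        LinearMap.toMatrix (bA A) (bA A) g.toLinearMap) = co ((wMat Q).map (algebraMap R A)) := by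
  have h0 : g ∈ orth Q A ↔ (baseChangeForm A Q).comp g.toLinearMap = baseChangeForm A Q := by
    rw [QuadGrp.orth, mem_O, QuadraticMap.ext_iff]
    exact forall_congr' fun v => ((AlgebraTensorModule.rid R A A).injective.eq_iff).symm
  have hg : (baseChangeForm A Q).comp g.toLinearMap =
      LinearMap.BilinMap.toQuadraticMap ((bilA Q A).compl₁₂ g.toLinearMap g.toLinearMap) := by
    ext x
    rw [baseChangeForm_eq, LinearMap.BilinMap.toQuadraticMap_apply, LinearMap.compl₁₂_apply, QuadraticMap.comp_apply,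
      LinearMap.BilinMap.toQuadraticMap_apply]
  have hco : coeffs (bA A) (LinearEquiv.refl A A) ((baseChangeForm A Q).comp g.toLinearMap) =
      co ((LinearMap.toMatrix (bA A) (bA A) g.toLinearMap)ᵀ * (wMat Q).map (algebraMap R A) *
        LinearMap.toMatrix (bA A) (bA A) g.toLinearMap) := by
    rw [hg, coeffs_toQuadraticMap, LinearMap.toMatrix₂_compl₁₂ (bA A) (bA A) (bA A) (bA A), toMatrix₂_bilA]
  rw [h0, ← hco, ← coeffs_baseChangeForm]
  exact ⟨fun h => by rw [h], eq_of_coeffs_eq (bA A)⟩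

theorem det_eq_one_iff (g : (A ⊗[R] (Fin n → R)) ≃ₗ[A] (A ⊗[R] (Fin n → R))) :
    g ∈ (LinearEquiv.det (R := A) (M := A ⊗[R] (Fin n → R))).ker ↔
      (LinearMap.toMatrix (bA A) (bA A) g.toLinearMap).det = 1 := by
  rw [MonoidHom.mem_ker, Units.ext_iff, LinearEquiv.coe_det, LinearMap.det_toMatrix]
  rfl

theorem repr_rTensor {B : Type u} [CommRing B] [Algebra R B] (φ : A →ₐ[R] B) (x : A ⊗[R] (Fin n → R)) (i : Fin n) :
    (bA B).repr (LinearMap.rTensor (Fin n → R) φ.toLinearMap x) i = φ ((bA A).repr x i) := by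
  induction x using TensorProduct.induction_on with
  | zero => simp
  | add x y hx hy => simp [hx, hy]
  | tmul a m => simp [bA, Algebra.TensorProduct.basis_repr_tmul, Algebra.smul_def]

end Coords

/-- The equations: those of isometries, and a set of further polynomials in the entries. -/
noncomputable def eqs (s : Finset (MvPolynomial (Fin n × Fin n) R)) : Set (MvPolynomial (Fin n × Fin n) R) :=
  (Set.range fun t : Sym2 (Fin n) =>
    co ((Matrix.mvPolynomialX (Fin n) (Fin n) R)ᵀ * (wMat Q).map C * Matrix.mvPolynomialX (Fin n) (Fin n) R) t -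
      co ((wMat Q).map C) t) ∪ ↑s

/-- The coordinate ring of the scheme of solutions. -/
abbrev Coord (s : Finset (MvPolynomial (Fin n × Fin n) R)) : Type u :=
  MvPolynomial (Fin n × Fin n) R ⧸ Ideal.span (eqs Q s)

instance finitePresentation_coord (s : Finset (MvPolynomial (Fin n × Fin n) R)) :
    Algebra.FinitePresentation R (Coord Q s) :=
  Algebra.FinitePresentation.quotient (Submodule.fg_span ((Set.finite_range _).union s.finite_toSet))

/-- A matrix solves the equations. -/
def IsSol (s : Finset (MvPolynomial (Fin n × Fin n) R)) {A : Type u} [CommRing A] [Algebra R A]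
    (g : Matrix (Fin n) (Fin n) A) : Prop :=
  co (gᵀ * (wMat Q).map (algebraMap R A) * g) = co ((wMat Q).map (algebraMap R A)) ∧
    ∀ p ∈ s, aeval (fun ij : Fin n × Fin n => g ij.1 ij.2) p = 0

theorem aeval_eqs {A : Type u} [CommRing A] [Algebra R A] (g : Matrix (Fin n) (Fin n) A) (t : Sym2 (Fin n)) :
    aeval (fun ij : Fin n × Fin n => g ij.1 ij.2)
      (co ((Matrix.mvPolynomialX (Fin n) (Fin n) R)ᵀ * (wMat Q).map C * Matrix.mvPolynomialX (Fin n) (Fin n) R) t -
        co ((wMat Q).map C) t) =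
      co (gᵀ * (wMat Q).map (algebraMap R A) * g) t - co ((wMat Q).map (algebraMap R A)) t := by
  set f := (aeval (fun ij : Fin n × Fin n => g ij.1 ij.2) : MvPolynomial (Fin n × Fin n) R →ₐ[R] A).toRingHom
  have hX : (Matrix.mvPolynomialX (Fin n) (Fin n) R).map f = g := by
    ext i j; simp [f, Matrix.mvPolynomialX]
  have hC : ((wMat Q).map C).map f = (wMat Q).map (algebraMap R A) := by
    ext i j; simp [f]
  change f (_ - _) = _
  rw [map_sub]
  congr 1
  · refine congrFun (?_ : f ∘ _ = _) t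
    rw [map_co, Matrix.map_mul, Matrix.map_mul, Matrix.transpose_map, hX, hC]
  · refine congrFun (?_ : f ∘ _ = _) t
    rw [map_co, hC]

/-- Points of the coordinate ring are solutions. -/
noncomputable def homEquiv (s : Finset (MvPolynomial (Fin n × Fin n) R)) (A : Type u) [CommRing A] [Algebra R A] :
    (Coord Q s →ₐ[R] A) ≃ {g : Matrix (Fin n) (Fin n) A // IsSol Q s g} where
  toFun f := ⟨Matrix.of fun i j => f (Ideal.Quotient.mk _ (X (i, j))), by
    have hf : (aeval fun ij : Fin n × Fin n => f (Ideal.Quotient.mk _ (X (ij.1, ij.2)))) =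
        f.comp (Ideal.Quotient.mkₐ R (Ideal.span (eqs Q s))) := MvPolynomial.algHom_ext fun ij => by simp
    have hz : ∀ p ∈ eqs Q s, f (Ideal.Quotient.mk _ p) = 0 := fun p hp => by
      rw [Ideal.Quotient.eq_zero_iff_mem.2 (Ideal.subset_span hp), map_zero]
    refine ⟨funext fun t => sub_eq_zero.1 ?_, fun p hp => ?_⟩
    · rw [← aeval_eqs]
      exact (congrArg (fun a : MvPolynomial (Fin n × Fin n) R →ₐ[R] A => a _) hf).trans (hz _ (Or.inl ⟨t, rfl⟩))
    · exact (congrArg (fun a : MvPolynomial (Fin n × Fin n) R →ₐ[R] A => a p) hf).trans (hz p (Or.inr hp))⟩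
  invFun g := Ideal.Quotient.liftₐ _ (aeval fun ij : Fin n × Fin n => g.1 ij.1 ij.2) (by
    intro p hp
    suffices Ideal.span (eqs Q s) ≤ RingHom.ker (aeval fun ij : Fin n × Fin n => g.1 ij.1 ij.2).toRingHom from
      this hp
    rw [Ideal.span_le]
    rintro q (⟨t, rfl⟩ | hq)
    · refine RingHom.mem_ker.2 ((aeval_eqs Q g.1 t).trans ?_)
      rw [g.2.1, sub_self]
    · exact RingHom.mem_ker.2 (g.2.2 q hq))
  left_inv f := Ideal.Quotient.algHom_ext R (MvPolynomial.algHom_ext fun ij => by simp)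
  right_inv g := Subtype.ext (Matrix.ext fun i j => by simp)

/-- Formal smoothness from a lifting property for solutions. -/
theorem formallySmooth_coord (s : Finset (MvPolynomial (Fin n × Fin n) R))
    (hlift : ∀ (B : Type u) [CommRing B] [Algebra R B] (I : Ideal B), I ^ 2 = ⊥ →
      ∀ g : Matrix (Fin n) (Fin n) B, IsSol Q s (g.map (Ideal.Quotient.mk I)) →
        ∃ g' : Matrix (Fin n) (Fin n) B, (∀ i j, g' i j - g i j ∈ I) ∧ IsSol Q s g') :
    Algebra.FormallySmooth R (Coord Q s) := by
  refine Algebra.FormallySmooth.of_comp_surjective fun B _ _ I hI f => ?_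
  let gb := homEquiv Q s (B ⧸ I) f
  choose g hg using fun i j => Ideal.Quotient.mk_surjective (gb.1 i j)
  have hg' : (Matrix.of g).map (Ideal.Quotient.mk I) = gb.1 := Matrix.ext fun i j => hg i j
  obtain ⟨g', h1, h2⟩ := hlift B I hI (Matrix.of g) (hg'.symm ▸ gb.2)
  refine ⟨(homEquiv Q s B).symm ⟨g', h2⟩, ?_⟩
  refine Ideal.Quotient.algHom_ext R (MvPolynomial.algHom_ext fun ij => ?_)
  simp only [AlgHom.comp_apply, Ideal.Quotient.mkₐ_eq_mk, homEquiv, Equiv.coe_fn_symm_mk, Ideal.Quotient.liftₐ_apply,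
    Ideal.Quotient.lift_mk, RingHom.coe_coe, aeval_X]
  exact (Ideal.Quotient.eq.2 (h1 ij.1 ij.2)).trans (hg ij.1 ij.2)

/-- Solutions lift through square zero extensions when the coordinate ring is formally smooth. -/
theorem exists_lift_of_formallySmooth (s : Finset (MvPolynomial (Fin n × Fin n) R))
    [Algebra.FormallySmooth R (Coord Q s)] {B : Type u} [CommRing B] [Algebra R B] {I : Ideal B} (hI : I ^ 2 = ⊥)
    (g : Matrix (Fin n) (Fin n) B) (hg : IsSol Q s (g.map (Ideal.Quotient.mk I))) :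
    ∃ g' : Matrix (Fin n) (Fin n) B, (∀ i j, g' i j - g i j ∈ I) ∧ IsSol Q s g' := by
  obtain ⟨f, hf⟩ := Algebra.FormallySmooth.comp_surjective R (Coord Q s) I hI ((homEquiv Q s _).symm ⟨_, hg⟩)
  refine ⟨(homEquiv Q s B f).1, fun i j => Ideal.Quotient.eq.1 ?_, (homEquiv Q s B f).2⟩
  have := congrArg (fun a : Coord Q s →ₐ[R] B ⧸ I => (homEquiv Q s _ a).1 i j) hf
  simp only [Equiv.apply_symm_apply] at this
  exact this

theorem map_wMat {A : Type u} [CommRing A] [Algebra R A] {B : Type u} [CommRing B] [Algebra R B] (f : A →ₐ[R] B) :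
    ((wMat Q).map (algebraMap R A)).map f = (wMat Q).map (algebraMap R B) := by
  ext i j; simp

/-- Solutions modulo an ideal, spelled out. -/
theorem isSol_map_mk {B : Type u} [CommRing B] [Algebra R B] (I : Ideal B)
    (s : Finset (MvPolynomial (Fin n × Fin n) R)) (g : Matrix (Fin n) (Fin n) B)
    (h : IsSol Q s (g.map (Ideal.Quotient.mk I))) :
    ∀ t, co (gᵀ * (wMat Q).map (algebraMap R B) * g) t - co ((wMat Q).map (algebraMap R B)) t ∈ I := by
  intro t
  refine Ideal.Quotient.eq.1 ?_
  have e : ∀ V : Matrix (Fin n) (Fin n) B,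
      Ideal.Quotient.mk I (co V t) = co (V.map (Ideal.Quotient.mk I)) t := fun V =>
    congrFun (map_co (Ideal.Quotient.mk I) V) t
  have hW : ((wMat Q).map (algebraMap R B)).map (Ideal.Quotient.mk I) = (wMat Q).map (algebraMap R (B ⧸ I)) :=
    map_wMat Q (Ideal.Quotient.mkₐ R I)
  rw [e, e, Matrix.map_mul, Matrix.map_mul, Matrix.transpose_map, hW]
  exact congrFun h.1 t

theorem isUnit_det_polar_of_isRegular (hQ : IsRegular Q) : IsUnit (wMat Q + (wMat Q)ᵀ).det := by
  let b := Pi.basisFun R (Fin n)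
  let e : (Fin n → R) ≃ₗ[R] Module.Dual R (Fin n → R) := LinearEquiv.ofBijective (QuadraticMap.polarBilin Q) hQ
  have h : LinearMap.toMatrix b b.dualBasis e.toLinearMap = wMat Q + (wMat Q)ᵀ := by
    ext i j
    rw [LinearMap.toMatrix_apply, Module.Basis.dualBasis_repr, Matrix.add_apply, Matrix.transpose_apply]
    change QuadraticMap.polar Q (b j) (b i) = _
    simp only [wMat, up, Matrix.of_apply, coeffs_mk, LinearEquiv.refl_apply]
    rcases lt_trichotomy i j with hl | rfl | hl
    · simp [hl.le, hl.ne, not_le.mpr hl, QuadraticMap.polar_comm, b]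
    · simp [QuadraticMap.polar_self, two_mul, two_nsmul, b]
    · simp [hl.le, hl.ne, hl.ne', not_le.mpr hl, b]
  rw [← h]
  exact LinearEquiv.isUnit_det e b b.dualBasis

theorem halfDisc_eq : halfDisc (Pi.basisFun R (Fin n)) (LinearEquiv.refl R R) Q = hd (co (wMat Q)) := by
  rw [wMat, co_up]
  rfl

variable {Q} in
theorem isUnit_det_polar_map (h : IsUnit (wMat Q + (wMat Q)ᵀ).det) (A : Type u) [CommRing A] [Algebra R A] :
    IsUnit ((wMat Q).map (algebraMap R A) + ((wMat Q).map (algebraMap R A))ᵀ).det := by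
  have := h.map (algebraMap R A)
  rwa [RingHom.map_det, RingHom.mapMatrix_apply, Matrix.map_add _ (map_add _), Matrix.transpose_map] at this

variable {Q} in
theorem isUnit_hd_map (h : IsUnit (hd (co (wMat Q)))) (A : Type u) [CommRing A] [Algebra R A] :
    IsUnit (hd (co ((wMat Q).map (algebraMap R A)))) := by
  rw [← map_hd_co]
  exact h.map _

variable {Q} in
theorem det_sq_eq_one (hQ : IsNondeg (Pi.basisFun R (Fin n)) (LinearEquiv.refl R R) Q)
    {A : Type u} [CommRing A] [Algebra R A] (g : Matrix (Fin n) (Fin n) A)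
    (hg : co (gᵀ * (wMat Q).map (algebraMap R A) * g) = co ((wMat Q).map (algebraMap R A))) : g.det ^ 2 = 1 := by
  set W := (wMat Q).map (algebraMap R A)
  rcases Nat.even_or_odd n with he | ho
  · have hP := isUnit_det_polar_map (isUnit_det_polar_of_isRegular Q (hQ.1 he)) A
    have h1 := polar_eq hg
    rw [polar_congr] at h1
    have h2 := congrArg Matrix.det h1
    rw [Matrix.det_mul, Matrix.det_mul, Matrix.det_transpose] at h2
    exact hP.mul_left_cancel (by linear_combination h2)
  · have hq : IsUnit (hd (co W)) := isUnit_hd_map (halfDisc_eq Q ▸ hQ.2 ho) A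
    have h2 := hd_congr ho W g
    rw [hg] at h2
    exact hq.mul_left_cancel (by linear_combination -h2)

/-- The extra equation cutting out determinant one. -/
noncomputable def detEq (n : ℕ) : Finset (MvPolynomial (Fin n × Fin n) R) :=
  {(Matrix.mvPolynomialX (Fin n) (Fin n) R).det - 1}

theorem isSol_detEq_iff {A : Type u} [CommRing A] [Algebra R A] (g : Matrix (Fin n) (Fin n) A) :
    IsSol Q (detEq n) g ↔
      co (gᵀ * (wMat Q).map (algebraMap R A) * g) = co ((wMat Q).map (algebraMap R A)) ∧ g.det = 1 := by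
  have : aeval (fun ij : Fin n × Fin n => g ij.1 ij.2) ((Matrix.mvPolynomialX (Fin n) (Fin n) R).det - 1) =
      g.det - 1 := by
    rw [map_sub, map_one, AlgHom.map_det, Matrix.mvPolynomialX_mapMatrix_aeval]
  simp [IsSol, detEq, this, sub_eq_zero, -map_sub]

/-- The automorphism with a given invertible matrix. -/
noncomputable def toAut (A : Type u) [CommRing A] [Algebra R A] (g : Matrix (Fin n) (Fin n) A) (h : IsUnit g.det) :
    (A ⊗[R] (Fin n → R)) ≃ₗ[A] (A ⊗[R] (Fin n → R)) :=
  LinearEquiv.ofLinear (Matrix.toLin (bA A) (bA A) g) (Matrix.toLin (bA A) (bA A) g⁻¹)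
    (by rw [← Matrix.toLin_mul, Matrix.mul_nonsing_inv g h, Matrix.toLin_one])
    (by rw [← Matrix.toLin_mul, Matrix.nonsing_inv_mul g h, Matrix.toLin_one])

theorem toMatrix_toAut (A : Type u) [CommRing A] [Algebra R A] (g : Matrix (Fin n) (Fin n) A) (h : IsUnit g.det) :
    LinearMap.toMatrix (bA A) (bA A) (toAut (R := R) A g h).toLinearMap = g :=
  LinearMap.toMatrix_toLin _ _ g

theorem toAut_toMatrix (A : Type u) [CommRing A] [Algebra R A] (g : (A ⊗[R] (Fin n → R)) ≃ₗ[A] (A ⊗[R] (Fin n → R)))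
    (h : IsUnit (LinearMap.toMatrix (bA A) (bA A) g.toLinearMap).det) :
    toAut (R := R) A (LinearMap.toMatrix (bA A) (bA A) g.toLinearMap) h = g :=
  LinearEquiv.toLinearMap_injective (Matrix.toLin_toMatrix _ _ _)

variable {Q} in
/-- A group of automorphisms described by matrix equations, as the set of solutions. -/
noncomputable def solEquiv (A : Type u) [CommRing A] [Algebra R A] (s : Finset (MvPolynomial (Fin n × Fin n) R))
    (S : Subgroup ((A ⊗[R] (Fin n → R)) ≃ₗ[A] (A ⊗[R] (Fin n → R))))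
    (hS : ∀ g, g ∈ S ↔ IsSol Q s (LinearMap.toMatrix (bA A) (bA A) g.toLinearMap))
    (hdet : ∀ g : Matrix (Fin n) (Fin n) A, IsSol Q s g → IsUnit g.det) :
    ↥S ≃ {g : Matrix (Fin n) (Fin n) A // IsSol Q s g} where
  toFun g := ⟨LinearMap.toMatrix (bA A) (bA A) g.1.toLinearMap, (hS g.1).1 g.2⟩
  invFun g := ⟨toAut (R := R) A g.1 (hdet g.1 g.2), (hS _).2 ((toMatrix_toAut (R := R) A g.1 _).symm ▸ g.2)⟩
  left_inv g := Subtype.ext (toAut_toMatrix A g.1 (hdet _ ((hS g.1).1 g.2)))
  right_inv g := Subtype.ext (toMatrix_toAut (R := R) A g.1 (hdet g.1 g.2))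

open CategoryTheory AlgebraicGeometry MonObj in
/-- A represented family of automorphism groups described by matrix equations. -/
noncomputable def affRepOf {S : ∀ (A : Type u) [CommRing A] [Algebra R A],
      Subgroup ((A ⊗[R] (Fin n → R)) ≃ₗ[A] (A ⊗[R] (Fin n → R)))}
    {G : Over (Spec (CommRingCat.of R))} [GrpObj G] (D : LinRep R (Fin n → R) S G)
    (s : Finset (MvPolynomial (Fin n × Fin n) R))
    (hS : ∀ (A : Type u) [CommRing A] [Algebra R A] (g : (A ⊗[R] (Fin n → R)) ≃ₗ[A] (A ⊗[R] (Fin n → R))),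
      g ∈ S A ↔ IsSol Q s (LinearMap.toMatrix (bA A) (bA A) g.toLinearMap))
    (hdet : ∀ (A : Type u) [CommRing A] [Algebra R A] (g : Matrix (Fin n) (Fin n) A), IsSol Q s g → IsUnit g.det) :
    AffRep G (Coord Q s) where
  pts A _ _ := ((D.pts A).toEquiv.trans (solEquiv A s (S A) (hS A) (hdet A))).trans (homEquiv Q s A).symm
  natural A B _ _ _ _ φ y := by
    refine Ideal.Quotient.algHom_ext R (MvPolynomial.algHom_ext fun ij => ?_)
    simp only [Equiv.trans_apply, solEquiv, homEquiv, Equiv.coe_fn_mk, Equiv.coe_fn_symm_mk, AlgHom.comp_apply,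
      Ideal.Quotient.mkₐ_eq_mk, Ideal.Quotient.liftₐ_apply, Ideal.Quotient.lift_mk, RingHom.coe_coe, aeval_X,
      MulEquiv.coe_toEquiv, LinearMap.toMatrix_apply, LinearEquiv.coe_coe, bA_apply]
    exact (congrArg (fun x => (bA B).repr x ij.1) (D.natural A B φ y _)).trans (repr_rTensor A φ _ _)

end Groth.Agent.OrthSmooth
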