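import Groth.Agent.OrthSmooth.Main
import Groth.Agent.UnitProd.SmoothReduced
import Mathlib.RingTheory.RingHom.Smooth
import Mathlib.RingTheory.Smooth.Flat
import Mathlib.LinearAlgebra.Matrix.Permutation
import Mathlib.LinearAlgebra.TensorProduct.RightExactness

/-!
# The naive special orthogonal group of the split form of even rank over `ℤ`
-/

set_option autoImplicit false

namespace Groth.Agent.OrthSmooth

open QuadGrp Matrix Groth.Agent.QuadHalfDisc MvPolynomial TensorProduct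

/-- Exchange the indices `2i` and `2i+1`. -/
def pairSwap (m : ℕ) (a : Fin (2 * m)) : Fin (2 * m) :=
  ⟨if a.1 % 2 = 0 then a.1 + 1 else a.1 - 1, by have := a.2; split <;> omega⟩

theorem pairSwap_pairSwap (m : ℕ) (a : Fin (2 * m)) : pairSwap m (pairSwap m a) = a := by
  have := a.2
  ext
  simp only [pairSwap]
  split_ifs <;> omega

theorem splitForm_even_apply (m : ℕ) (x : Fin (2 * m) → ℤ) :
    splitForm ℤ (2 * m) x = ∑ i : Fin ((2 * m) / 2),
      x ⟨2 * i + (2 * m) % 2, by omega⟩ * x ⟨2 * i + 1 + (2 * m) % 2, by omega⟩ := by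
  simp [splitForm, QuadraticMap.linMulLin]

theorem polar_split (m : ℕ) (a b : Fin (2 * m)) :
    QuadraticMap.polar (splitForm ℤ (2 * m)) (Pi.single a 1) (Pi.single b 1) = if b = pairSwap m a then 1 else 0 := by
  have ha := a.2
  have hb := b.2
  simp only [QuadraticMap.polar, splitForm_even_apply, Pi.add_apply, ← Finset.sum_sub_distrib]
  rw [Finset.sum_eq_single (⟨a.1 / 2, by omega⟩ : Fin ((2 * m) / 2))]
  · simp only [Pi.single_apply, Fin.ext_iff, pairSwap]
    split_ifs <;> omega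
  · intro i _ hi
    have hi' : i.1 ≠ a.1 / 2 := fun h => hi (Fin.ext h)
    simp only [Pi.single_apply, Fin.ext_iff]
    split_ifs <;> omega
  · simp

theorem isRegular_split (m : ℕ) : IsRegular (splitForm ℤ (2 * m)) := by
  classical
  set Q := splitForm ℤ (2 * m)
  have h : ∀ x a, QuadraticMap.polarBilin Q x (Pi.single a 1) = x (pairSwap m a) := by
    intro x a
    conv_lhs => rw [pi_eq_sum_univ' x]
    simp only [map_sum, map_smul, LinearMap.sum_apply, LinearMap.smul_apply, QuadraticMap.polarBilin_apply_apply]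
    rw [Finset.sum_eq_single (pairSwap m a)]
    · rw [polar_split, if_pos (pairSwap_pairSwap m a).symm, smul_eq_mul, mul_one]
    · intro b _ hb
      rw [polar_split, if_neg (fun h => hb (by rw [h, pairSwap_pairSwap])), smul_zero]
    · simp
  refine ⟨fun x y hxy => funext fun a => ?_, fun d => ⟨fun a => d (Pi.single (pairSwap m a) 1), ?_⟩⟩
  · rw [← pairSwap_pairSwap m a, ← h x, ← h y, hxy]
  · refine (Pi.basisFun ℤ (Fin (2 * m))).ext fun a => ?_
    rw [Pi.basisFun_apply, h, pairSwap_pairSwap]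

theorem co_of_comp_eq {R : Type} [CommRing R] {n : ℕ} (Q : QuadraticForm R (Fin n → R)) (g : Matrix (Fin n) (Fin n) R)
    (h : ∀ x, Q (g.mulVec x) = Q x) : co (gᵀ * wMat Q * g) = co (wMat Q) := by
  let b := Pi.basisFun R (Fin n)
  set B := Q.toBilin b
  have hB : LinearMap.BilinMap.toQuadraticMap B = Q := Q.toQuadraticMap_toBilin b
  have h1 : LinearMap.BilinMap.toQuadraticMap (B.compl₁₂ (Matrix.toLin' g) (Matrix.toLin' g)) = Q := by
    ext x
    rw [LinearMap.BilinMap.toQuadraticMap_apply, LinearMap.compl₁₂_apply, ← LinearMap.BilinMap.toQuadraticMap_apply,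
      hB, Matrix.toLin'_apply, h]
  have hg : LinearMap.toMatrix b b (Matrix.toLin' g) = g := by
    rw [LinearMap.toMatrix_eq_toMatrix', LinearMap.toMatrix'_toLin']
  have := coeffs_toQuadraticMap b (B.compl₁₂ (Matrix.toLin' g) (Matrix.toLin' g))
  rw [h1, LinearMap.toMatrix₂_compl₁₂ b b b b, hg, toMatrix₂_toBilin] at this
  exact this.symm.trans (co_up _).symm

theorem split_swap (m : ℕ) (hm : 1 ≤ m) (x : Fin (2 * m) → ℤ) :
    splitForm ℤ (2 * m) (x ∘ Equiv.swap (⟨0, by omega⟩ : Fin (2 * m)) ⟨1, by omega⟩) = splitForm ℤ (2 * m) x := by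
  simp only [splitForm_even_apply, Function.comp_apply]
  refine Finset.sum_congr rfl fun i _ => ?_
  by_cases hi : i.1 = 0
  · have e1 : (⟨2 * i + (2 * m) % 2, by omega⟩ : Fin (2 * m)) = ⟨0, by omega⟩ := Fin.ext (by simp only; omega)
    have e2 : (⟨2 * i + 1 + (2 * m) % 2, by omega⟩ : Fin (2 * m)) = ⟨1, by omega⟩ := Fin.ext (by simp only; omega)
    rw [e1, e2, Equiv.swap_apply_left, Equiv.swap_apply_right, mul_comm]
  · rw [Equiv.swap_apply_of_ne_of_ne, Equiv.swap_apply_of_ne_of_ne] <;> simp [Fin.ext_iff] <;> omega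

theorem eq_zero_of_two_mul {B : Type} [CommRing B] [hB : Algebra ℤ B] [Module.Flat ℤ B] {b : B} (hb : 2 * b = 0) :
    b = 0 := by
  obtain rfl : hB = Ring.toIntAlgebra B := Subsingleton.elim _ _
  have h := Module.Flat.lTensor_preserves_injective_linearMap (M := B) (LinearMap.mulLeft ℤ (2 : ℤ))
    (fun x y h => by simpa using h)
  refine (TensorProduct.rid ℤ B).symm.injective ((h ?_).trans (map_zero _).symm)
  rw [map_zero, TensorProduct.rid_symm_apply, LinearMap.lTensor_tmul, LinearMap.mulLeft_apply, mul_one,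
    show (2 : ℤ) = (2 : ℤ) • (1 : ℤ) by simp, ← TensorProduct.smul_tmul, zsmul_eq_mul, Int.cast_ofNat, hb,
    TensorProduct.zero_tmul]

theorem homEquiv_symm_X {R : Type} [CommRing R] {n : ℕ} (Q : QuadraticForm R (Fin n → R))
    (s : Finset (MvPolynomial (Fin n × Fin n) R)) {B : Type} [CommRing B] [Algebra R B]
    (g : {g : Matrix (Fin n) (Fin n) B // IsSol Q s g}) (i j : Fin n) :
    (homEquiv Q s B).symm g (Ideal.Quotient.mk _ (X (i, j))) = g.1 i j :=
  aeval_X _ _

theorem co_eq_map {R : Type} [CommRing R] {n : ℕ} (Q : QuadraticForm R (Fin n → R)) {B C : Type} [CommRing B]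
    [Algebra R B] [CommRing C] [Algebra R C] (f : B →ₐ[R] C) {g : Matrix (Fin n) (Fin n) B}
    (h : co (gᵀ * (wMat Q).map (algebraMap R B) * g) = co ((wMat Q).map (algebraMap R B))) :
    co ((g.map f)ᵀ * (wMat Q).map (algebraMap R C) * g.map f) = co ((wMat Q).map (algebraMap R C)) := by
  have := congrArg (f.toRingHom ∘ ·) h
  simp only [map_co] at this
  rw [← map_wMat Q f]
  simpa [Matrix.map_mul, Matrix.transpose_map] using this

/-- The universal solution. -/
noncomputable def univSol {R : Type} [CommRing R] {n : ℕ} (Q : QuadraticForm R (Fin n → R))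
    (s : Finset (MvPolynomial (Fin n × Fin n) R)) : Matrix (Fin n) (Fin n) (Coord Q s) :=
  Matrix.of fun i j => Ideal.Quotient.mk _ (X (i, j))

theorem isSol_univSol {R : Type} [CommRing R] {n : ℕ} (Q : QuadraticForm R (Fin n → R))
    (s : Finset (MvPolynomial (Fin n × Fin n) R)) : IsSol Q s (univSol Q s) :=
  (homEquiv Q s (Coord Q s) (AlgHom.id R _)).2

section Gen

variable {R : Type} [CommRing R] {n : ℕ} (Q : QuadraticForm R (Fin n → R))

/-- The restriction to the determinant one locus. -/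
noncomputable def projDet : Coord Q ∅ →ₐ[R] Coord Q (detEq n) :=
  (homEquiv Q ∅ _).symm ⟨univSol Q (detEq n), (isSol_empty_iff _).2 ((isSol_detEq_iff Q _).1 (isSol_univSol Q _)).1⟩

theorem hom_ext_univSol {s : Finset (MvPolynomial (Fin n × Fin n) R)} {B : Type} [CommRing B] [Algebra R B]
    {f g : Coord Q s →ₐ[R] B} (h : (univSol Q s).map f = (univSol Q s).map g) : f = g :=
  Ideal.Quotient.algHom_ext R (MvPolynomial.algHom_ext fun ij => congrFun (congrFun h ij.1) ij.2)

theorem map_univSol (s : Finset (MvPolynomial (Fin n × Fin n) R)) {B : Type} [CommRing B] [Algebra R B]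
    (g : {g : Matrix (Fin n) (Fin n) B // IsSol Q s g}) : (univSol Q s).map ((homEquiv Q s B).symm g) = g.1 :=
  Matrix.ext fun i j => homEquiv_symm_X Q s g i j

theorem projDet_surjective : Function.Surjective (projDet Q) := by
  intro y
  obtain ⟨y, rfl⟩ := Ideal.Quotient.mk_surjective y
  refine ⟨Ideal.Quotient.mk _ y, ?_⟩
  have : (projDet Q).comp (Ideal.Quotient.mkₐ R (Ideal.span (eqs Q ∅))) =
      Ideal.Quotient.mkₐ R (Ideal.span (eqs Q (detEq n))) :=
    MvPolynomial.algHom_ext fun ij => homEquiv_symm_X Q ∅ _ ij.1 ij.2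
  exact AlgHom.congr_fun this y

theorem projDet_det : projDet Q (univSol Q ∅).det = 1 := by
  rw [AlgHom.map_det, AlgHom.mapMatrix_apply, projDet, map_univSol]
  exact ((isSol_detEq_iff Q _).1 (isSol_univSol Q _)).2

theorem comp_projDet {B : Type} [CommRing B] [Algebra R B] (g : Matrix (Fin n) (Fin n) B) (h0 : IsSol Q ∅ g)
    (h1 : IsSol Q (detEq n) g) :
    ((homEquiv Q (detEq n) B).symm ⟨g, h1⟩).comp (projDet Q) = (homEquiv Q ∅ B).symm ⟨g, h0⟩ := by
  refine hom_ext_univSol Q ?_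
  rw [map_univSol]
  ext i j
  have := congrFun (congrFun (map_univSol Q ∅ (B := Coord Q (detEq n))
    ⟨univSol Q (detEq n), (isSol_empty_iff _).2 ((isSol_detEq_iff Q _).1 (isSol_univSol Q _)).1⟩) i) j
  exact (congrArg _ this).trans (congrFun (congrFun (map_univSol Q (detEq n) ⟨g, h1⟩) i) j)

theorem mem_of_projDet_eq_zero {x : Coord Q ∅} (hx : projDet Q x = 0) :
    x ∈ Ideal.span {(univSol Q ∅).det - 1} := by
  set K := Ideal.span {(univSol Q ∅).det - 1}
  let f : Coord Q ∅ →ₐ[R] Coord Q ∅ ⧸ K := { toRingHom := Ideal.Quotient.mk K, commutes' := fun _ => rfl }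
  have hco := co_eq_map Q (C := Coord Q ∅ ⧸ K) f ((isSol_empty_iff _).1 (isSol_univSol Q ∅))
  have hd : ((univSol Q ∅).map f).det = 1 := by
    rw [← AlgHom.mapMatrix_apply, ← AlgHom.map_det, ← map_one f]
    exact Ideal.Quotient.eq.2 (Ideal.subset_span rfl)
  have h0 : (homEquiv Q ∅ _).symm ⟨(univSol Q ∅).map f, (isSol_empty_iff _).2 hco⟩ = f :=
    hom_ext_univSol (B := Coord Q ∅ ⧸ K) Q (map_univSol Q ∅ (B := Coord Q ∅ ⧸ K) _)
  have := comp_projDet Q ((univSol Q ∅).map f) ((isSol_empty_iff _).2 hco) ((isSol_detEq_iff Q _).2 ⟨hco, hd⟩)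
  rw [h0] at this
  refine Ideal.Quotient.eq_zero_iff_mem.1 ?_
  have h2 := AlgHom.congr_fun this x
  rw [AlgHom.comp_apply, hx, map_zero] at h2
  exact h2.symm

end Gen

/-- The algebra behind the splitting of the determinant. -/
theorem reduced_not_flat {A A' : Type} [CommRing A] [CommRing A'] [Algebra ℤ A] [Algebra ℤ A'] [_root_.IsReduced A]
    [Module.Flat ℤ A]
    (hred2 : ∀ (a : A) (k : ℕ), a ^ k ∈ Ideal.span {(2 : A)} → a ∈ Ideal.span {(2 : A)})
    (π : A →+* A') (hπs : Function.Surjective π) (d : A) (hd2 : d ^ 2 = 1) (hπd : π d = 1)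
    (hker : ∀ x, π x = 0 → x ∈ Ideal.span {d - 1}) (fτ : A →+* ℤ) (hfd : fτ d = -1) (f₂ : A' →+* ZMod 2)
    (hf : f₂.comp π = (Int.castRingHom (ZMod 2)).comp fτ) : _root_.IsReduced A' ∧ ¬ Module.Flat ℤ A' := by
  obtain ⟨D, hD⟩ : ∃ D : A, D * 2 = d - 1 :=
    Ideal.mem_span_singleton'.1 (hred2 (d - 1) 2 (Ideal.mem_span_singleton'.2 ⟨1 - d, by linear_combination -hd2 + (0 : A) * hd2⟩))
  have hDD : D * (D + 1) = 0 := by
    refine eq_zero_of_two_mul (eq_zero_of_two_mul ?_)
    linear_combination hd2 + (2 * D + d + 1) * hD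
  have hK : ∀ z : A, z ∈ Ideal.span {d - 1} → π z = 0 := fun z hz => by
    obtain ⟨c, rfl⟩ := Ideal.mem_span_singleton'.1 hz
    rw [map_mul, map_sub, hπd, map_one, sub_self, mul_zero]
  refine ⟨⟨fun y ⟨k, hk⟩ => ?_⟩, fun hflat => ?_⟩
  · obtain ⟨x, rfl⟩ := hπs y
    rw [← map_pow] at hk
    obtain ⟨c, hc⟩ := Ideal.mem_span_singleton'.1 (hker _ hk)
    have h1 : x * (D + 1) = 0 := by
      refine IsNilpotent.eq_zero ⟨k + 1, ?_⟩
      rw [mul_pow, pow_succ x, ← hc, ← hD, pow_succ (D + 1)]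
      linear_combination (c * 2 * x * (D + 1) ^ k) * hDD
    obtain ⟨z, hz⟩ := Ideal.mem_span_singleton'.1
      (hred2 x k (Ideal.mem_span_singleton'.2 ⟨c * D, by rw [mul_assoc, hD, hc]⟩))
    refine hK _ (Ideal.mem_span_singleton'.2 ⟨-z, ?_⟩)
    linear_combination -h1 + z * hD + D * -1 * hz + (0 : A) * hDD
  · have h0 : π D = 0 := by
      refine eq_zero_of_two_mul ?_
      have h2 : π (D * 2) = 0 := hK _ (Ideal.mem_span_singleton'.2 ⟨1, by rw [one_mul, hD]⟩)
      rw [map_mul, map_ofNat] at h2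
      rwa [mul_comm]
    have hfD : fτ D = -1 := by
      have := congrArg fτ hD
      rw [map_mul, map_sub, hfd, map_one, map_ofNat] at this
      omega
    have := RingHom.congr_fun hf D
    rw [RingHom.comp_apply, RingHom.comp_apply, h0, map_zero, hfD] at this
    simp at this

theorem reduced_mod_two {A : Type} [CommRing A] [hA : Algebra ℤ A] [Algebra.Smooth ℤ A] (a : A) (k : ℕ)
    (hk : a ^ k ∈ Ideal.span {(2 : A)}) : a ∈ Ideal.span {(2 : A)} := by
  obtain rfl : hA = Ring.toIntAlgebra A := Subsingleton.elim _ _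
  let J : Ideal ℤ := Ideal.span {2}
  haveI : J.IsMaximal := PrincipalIdealRing.isMaximal_of_irreducible Int.prime_two.irreducible
  haveI : _root_.IsReduced ((ℤ ⧸ J) ⊗[ℤ] A) := UnitProd.isReduced_of_smooth (ℤ ⧸ J) ((ℤ ⧸ J) ⊗[ℤ] A)
  let e : (A ⧸ J.map (algebraMap ℤ A)) ≃+* ((ℤ ⧸ J) ⊗[ℤ] A) :=
    (Algebra.TensorProduct.quotIdealMapEquivTensorQuot A J).toRingEquiv.trans
      (Algebra.TensorProduct.comm ℤ A (ℤ ⧸ J)).toRingEquiv
  have hJ : J.map (algebraMap ℤ A) = Ideal.span {(2 : A)} := by simp [J, Ideal.map_span]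
  haveI : _root_.IsReduced (A ⧸ J.map (algebraMap ℤ A)) := isReduced_of_injective e e.injective
  rw [← hJ] at hk ⊢
  refine Ideal.Quotient.eq_zero_iff_mem.1 (IsNilpotent.eq_zero ⟨k, ?_⟩)
  rw [← map_pow]
  exact Ideal.Quotient.eq_zero_iff_mem.2 hk

/-- The coordinate ring is reduced and is not flat. -/
theorem coord_split (m : ℕ) (hm : 1 ≤ m) :
    _root_.IsReduced (Coord (splitForm ℤ (2 * m)) (detEq (2 * m))) ∧
      ¬ Module.Flat ℤ (Coord (splitForm ℤ (2 * m)) (detEq (2 * m))) := by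
  classical
  set Q := splitForm ℤ (2 * m)
  have hQ : IsNondeg (Pi.basisFun ℤ (Fin (2 * m))) (LinearEquiv.refl ℤ ℤ) Q :=
    ⟨fun _ => isRegular_split m, fun h => absurd h (Nat.not_odd_iff_even.2 (even_two_mul m))⟩
  haveI hFS : Algebra.FormallySmooth ℤ (Coord Q ∅) := formallySmooth_orth hQ (Or.inl (even_two_mul m))
  haveI : Algebra.Smooth ℤ (Coord Q ∅) := { formallySmooth := hFS, finitePresentation := inferInstance }
  haveI : _root_.IsReduced (Coord Q ∅) := UnitProd.isReduced_of_smooth ℤ (Coord Q ∅)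
  haveI : Module.Flat ℤ (Coord Q ∅) := inferInstance
  let σ : Equiv.Perm (Fin (2 * m)) := Equiv.swap ⟨0, by omega⟩ ⟨1, by omega⟩
  let τ : Matrix (Fin (2 * m)) (Fin (2 * m)) ℤ := σ.permMatrix ℤ
  have hdetτ : τ.det = -1 := by
    rw [Matrix.det_permutation, Equiv.Perm.sign_swap (by simp [Fin.ext_iff])]
    simp
  have hτ : co (τᵀ * (wMat Q).map (algebraMap ℤ ℤ) * τ) = co ((wMat Q).map (algebraMap ℤ ℤ)) := by
    rw [show (wMat Q).map (algebraMap ℤ ℤ) = wMat Q from Matrix.ext fun i j => rfl]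
    exact co_of_comp_eq Q τ fun x => by
      rw [Matrix.permMatrix_mulVec]
      exact split_swap m hm x
  let φ : ℤ →ₐ[ℤ] ZMod 2 := Algebra.ofId ℤ (ZMod 2)
  have hco2 := co_eq_map Q φ hτ
  have hdet2 : (τ.map φ).det = 1 := by
    rw [← AlgHom.mapMatrix_apply, ← AlgHom.map_det, hdetτ]
    simp [φ]
  set fτ := (homEquiv Q ∅ ℤ).symm ⟨τ, (isSol_empty_iff τ).2 hτ⟩ with hfτ
  have hfd : fτ (univSol Q ∅).det = -1 := by
    rw [AlgHom.map_det, AlgHom.mapMatrix_apply, hfτ, map_univSol, hdetτ]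
  have hf : ((homEquiv Q _ (ZMod 2)).symm ⟨τ.map φ, (isSol_detEq_iff Q _).2 ⟨hco2, hdet2⟩⟩).comp (projDet Q) =
      φ.comp fτ := by
    rw [comp_projDet Q (τ.map φ) ((isSol_empty_iff _).2 hco2)]
    refine hom_ext_univSol Q ?_
    rw [map_univSol, AlgHom.coe_comp, ← Matrix.map_map, hfτ, map_univSol]
  exact reduced_not_flat (fun a k => reduced_mod_two a k) (projDet Q).toRingHom (projDet_surjective Q) _
    (det_sq_eq_one hQ _ ((isSol_empty_iff _).1 (isSol_univSol Q ∅))) (projDet_det Q)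
    (fun x hx => mem_of_projDet_eq_zero Q hx) fτ.toRingHom hfd _
    (RingHom.ext fun x => (AlgHom.congr_fun hf x).trans rfl)

end Groth.Agent.OrthSmooth
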